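import Groth.Agent.L02.CMMor.Locus
import Groth.Agent.L02.Grpd.Invariant
import Groth.Agent.L19.FlatComp

/-! The Cohen–Macaulay locus of a groupoid; fppf descent of the Cohen–Macaulay property. -/

set_option autoImplicit false
set_option linter.style.haveILetI false
universe u

open CategoryTheory CategoryTheory.Limits AlgebraicGeometry IsLocalRing

namespace L02.CMMor

theorem flat_cm_congr_left {R A A' : Type u} [CommRing R] [IsLocalRing R] [CommRing A] [CommRing A']
    (ψ : R →+* A) (e : A ≃+* A') :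
    ((e.toRingHom.comp ψ).Flat ∧ LocCoh.IsCohenMacaulayLocalRing (A' ⧸ (maximalIdeal R).map (e.toRingHom.comp ψ))) ↔
      (ψ.Flat ∧ LocCoh.IsCohenMacaulayLocalRing (A ⧸ (maximalIdeal R).map ψ)) := by
  refine and_congr ⟨fun h => ?_, fun h => RingHom.Flat.comp h (RingHom.Flat.of_bijective e.bijective)⟩ ?_
  · have := RingHom.Flat.comp h (RingHom.Flat.of_bijective (f := e.symm.toRingHom) e.symm.bijective)
    rwa [← RingHom.comp_assoc, show e.symm.toRingHom.comp e.toRingHom = RingHom.id A from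
      RingHom.ext e.symm_apply_apply, RingHom.id_comp] at this
  · let q : (A ⧸ (maximalIdeal R).map ψ) ≃+* (A' ⧸ (maximalIdeal R).map (e.toRingHom.comp ψ)) :=
      Ideal.quotientEquiv _ _ e (Ideal.map_map ψ e.toRingHom).symm
    exact ⟨cm_of_ringEquiv q.symm, cm_of_ringEquiv q⟩

theorem flat_cm_congr_right {R R' A : Type u} [CommRing R] [IsLocalRing R] [CommRing R'] [IsLocalRing R']
    [CommRing A] (ψ : R →+* A) (e : R' ≃+* R) :
    ((ψ.comp e.toRingHom).Flat ∧ LocCoh.IsCohenMacaulayLocalRing (A ⧸ (maximalIdeal R').map (ψ.comp e.toRingHom))) ↔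
      (ψ.Flat ∧ LocCoh.IsCohenMacaulayLocalRing (A ⧸ (maximalIdeal R).map ψ)) := by
  refine and_congr ⟨fun h => ?_, fun h => RingHom.Flat.comp (RingHom.Flat.of_bijective e.bijective) h⟩ ?_
  · have := RingHom.Flat.comp (RingHom.Flat.of_bijective (f := e.symm.toRingHom) e.symm.bijective) h
    rwa [RingHom.comp_assoc, show e.toRingHom.comp e.symm.toRingHom = RingHom.id R from
      RingHom.ext e.apply_symm_apply, RingHom.comp_id] at this
  · rw [← Ideal.map_map, show (maximalIdeal R').map e.toRingHom = maximalIdeal R from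
      IsLocalRing.map_maximalIdeal_of_surjective e.toRingHom e.surjective]

variable {X Y Z : Scheme.{u}}

theorem isCMAt_openImmersion_comp (j : X ⟶ Y) [IsOpenImmersion j] (f : Y ⟶ Z) (x : X) :
    MoreMor.IsCMAt (j ≫ f) x ↔ MoreMor.IsCMAt f (j x) := by
  rw [← grpd_isCMAt_iff, ← grpd_isCMAt_iff]
  have h := flat_cm_congr_left (f.stalkMap (j x)).hom (asIso (j.stalkMap x)).commRingCatIsoToRingEquiv
  rw [show (asIso (j.stalkMap x)).commRingCatIsoToRingEquiv.toRingHom.comp (f.stalkMap (j x)).hom =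
    ((j ≫ f).stalkMap x).hom from (congrArg CommRingCat.Hom.hom (Scheme.Hom.stalkMap_comp j f x)).symm] at h
  exact h

theorem isCMAt_comp_iso (f : X ⟶ Y) (e : Y ⟶ Z) [IsIso e] (x : X) :
    MoreMor.IsCMAt (f ≫ e) x ↔ MoreMor.IsCMAt f x := by
  rw [← grpd_isCMAt_iff, ← grpd_isCMAt_iff]
  have h := flat_cm_congr_right (f.stalkMap x).hom (asIso (e.stalkMap (f x))).commRingCatIsoToRingEquiv
  rw [show (f.stalkMap x).hom.comp (asIso (e.stalkMap (f x))).commRingCatIsoToRingEquiv.toRingHom =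
    ((f ≫ e).stalkMap x).hom from (congrArg CommRingCat.Hom.hom (Scheme.Hom.stalkMap_comp f e x)).symm] at h
  exact h

/-- The Cohen–Macaulay locus, as an open. -/
noncomputable def cmOpen (f : X ⟶ Y) [Flat f] [LocallyOfFinitePresentation f] : X.Opens :=
  ⟨{x | MoreMor.IsCMAt f x}, isOpen_cmLocus f⟩

theorem i_i {S : Scheme.{u}} (G : Grpd.GroupoidScheme S) : G.i ≫ G.i = 𝟙 G.R := by
  have h := L02.Grpd.cancel_left G (𝟙 G.R ≫ G.i) (𝟙 G.R) (by simp [G.i_s])
  refine Eq.trans ?_ h
  have h2 : L02.Grpd.mul G (𝟙 G.R ≫ G.i) (𝟙 G.R) (by simp [G.i_s]) = 𝟙 G.R ≫ G.s ≫ G.e := G.i_comp (𝟙 G.R)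
  refine ((L02.Grpd.mul_congr G rfl h2 (by simp [G.i_s]) (by simp [G.e_t, G.i_s, G.i_t])).trans ?_).symm
  have h3 := G.comp_e (𝟙 G.R ≫ G.i ≫ G.i)
  refine (L02.Grpd.mul_congr G (by simp) ?_ _ (by simp [G.e_t])).trans (h3.trans (Category.id_comp _))
  simp only [Category.id_comp]
  rw [Category.assoc, ← Category.assoc G.i G.s, G.i_s, ← Category.assoc G.i, G.i_t]

/-- The open of objects over which source and target are Cohen–Macaulay. -/
theorem exists_cm_objects {S : Scheme.{u}} (G : Grpd.GroupoidScheme S) [Flat G.s] [LocallyOfFinitePresentation G.s]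
    [Flat G.t] [LocallyOfFinitePresentation G.t] :
    ∃ U' : G.U.Opens, (G.t ⁻¹ᵁ U' : Set G.R) = {r | MoreMor.IsCMAt G.s r} ∧
      (G.s ⁻¹ᵁ U' : Set G.R) = {r | MoreMor.IsCMAt G.t r} ∧
      ⇑G.t '' (G.s ⁻¹ᵁ U' : Set G.R) = Set.univ ∧ ⇑G.s '' (G.t ⁻¹ᵁ U' : Set G.R) = Set.univ := by
  let P : MorphismProperty Scheme.{u} := fun _ _ f => ∀ x, MoreMor.IsCMAt f x
  haveI : P.RespectsIso := MorphismProperty.RespectsIso.mk _
    (fun e f hf x => (isCMAt_openImmersion_comp e.hom f x).2 (hf _))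
    (fun e f hf x => (isCMAt_comp_iso f e.hom x).2 (hf x))
  let Q : MorphismProperty Scheme.{u} := fun _ _ f => Flat f ∧ LocallyOfFinitePresentation f
  haveI : Q.IsStableUnderBaseChange := ⟨fun sq hf =>
    ⟨MorphismProperty.of_isPullback sq hf.1, MorphismProperty.of_isPullback sq hf.2⟩⟩
  let W : ∀ {X Y : Scheme.{u}} (f : X ⟶ Y), Q f → X.Opens := fun f h =>
    @cmOpen _ _ f h.1 h.2
  have hid : Q (pullback.snd (𝟙 G.U) G.t ≫ G.s) := by
    haveI : IsIso (pullback.snd (𝟙 G.U) G.t) := inferInstance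
    exact ⟨inferInstance, inferInstance⟩
  obtain ⟨U', hU'⟩ := L02.Grpd.exists_open_preimage_eq G (𝟙 G.U) P Q Q W
    (fun f hf x => (isCMAt_openImmersion_comp _ f x).2 x.2)
    (fun f hf V hV x hx => (isCMAt_openImmersion_comp V.ι f ⟨x, hx⟩).1 (hV ⟨x, hx⟩))
    (fun f hf b hb hf' => by
      haveI := hf.1; haveI := hf.2
      ext x
      exact (isCMAt_baseChange f b (pullback.snd f b) (pullback.fst f b) (IsPullback.of_hasPullback f b) x).symm)
    ⟨inferInstance, inferInstance⟩ ⟨inferInstance, inferInstance⟩ hid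
  have h1 : (G.t ⁻¹ᵁ U' : Set G.R) = {r | MoreMor.IsCMAt G.s r} := by
    ext r
    obtain ⟨z, rfl⟩ : r ∈ Set.range (pullback.snd (𝟙 G.U) G.t) := (pullback.snd (𝟙 G.U) G.t).surjective r
    show G.t (pullback.snd (𝟙 G.U) G.t z) ∈ U' ↔ MoreMor.IsCMAt G.s (pullback.snd (𝟙 G.U) G.t z)
    rw [← isCMAt_openImmersion_comp (pullback.snd (𝟙 G.U) G.t) G.s z]
    have hz : G.t (pullback.snd (𝟙 G.U) G.t z) = pullback.fst (𝟙 G.U) G.t z :=
      (congrArg (fun m : pullback (𝟙 G.U) G.t ⟶ G.U => m z)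
        ((Category.comp_id _).symm.trans pullback.condition)).symm
    rw [hz]
    exact SetLike.ext_iff.mp hU' z
  haveI : IsIso G.i := ⟨G.i, i_i G, i_i G⟩
  have hit : G.t = G.i ≫ G.s := G.i_s.symm
  have h2 : (G.s ⁻¹ᵁ U' : Set G.R) = {r | MoreMor.IsCMAt G.t r} := by
    ext r
    show G.s r ∈ U' ↔ MoreMor.IsCMAt G.t r
    have hr : G.t (G.i r) = G.s r := congrArg (fun m : G.R ⟶ G.U => m r) G.i_t
    rw [← hr]
    have hiff : MoreMor.IsCMAt G.t r ↔ MoreMor.IsCMAt G.s (G.i r) := by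
      have := isCMAt_openImmersion_comp G.i G.s r
      rwa [← hit] at this
    exact (Set.ext_iff.mp h1 (G.i r)).trans hiff.symm
  have hne : ∀ (f : G.R ⟶ G.U) [Flat f] [LocallyOfFinitePresentation f], G.e ≫ f = 𝟙 G.U →
      f '' {r | MoreMor.IsCMAt f r} = Set.univ := by
    intro f _ _ hef
    refine Set.eq_univ_iff_forall.2 fun v => ?_
    haveI : Nonempty (f.fiber v) := by
      have : G.e v ∈ Set.range (f.fiberι v) := by
        rw [f.range_fiberι v]
        exact congrArg (fun m : G.U ⟶ G.U => m v) hef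
      obtain ⟨z, -⟩ := this
      exact ⟨z⟩
    obtain ⟨z, hz⟩ := (dense_cmLocus f v).nonempty
    exact ⟨f.fiberι v z, hz, (f.range_fiberι v).subset ⟨z, rfl⟩⟩
  exact ⟨U', h1, h2, h2 ▸ hne G.t G.e_t, h1 ▸ hne G.s G.e_s⟩

/-- A fibre is locally Noetherian when it is so after a finitely generated extension. -/
theorem isLocallyNoetherian_of_baseChange {k k' : Type u} [Field k] [Field k'] [Algebra k k'] {X X' : Scheme.{u}}
    (f : X ⟶ Spec (CommRingCat.of k)) {p : X' ⟶ X} {q : X' ⟶ Spec (CommRingCat.of k')}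
    (h : IsPullback p q f (Spec.map (CommRingCat.ofHom (algebraMap k k')))) [IsLocallyNoetherian X'] :
    IsLocallyNoetherian X := by
  rw [isLocallyNoetherian_iff_openCover X.affineOpenCover.openCover]
  intro i
  change IsLocallyNoetherian (Spec (X.affineOpenCover.X i))
  obtain ⟨φ, hφ⟩ := Spec.map_surjective (X.affineOpenCover.f i ≫ f)
  letI := φ.hom.toAlgebra
  let g := Spec.map (CommRingCat.ofHom (algebraMap k k'))
  let e : pullback (X.affineOpenCover.f i ≫ f) g ≅ Spec (CommRingCat.of (TensorProduct k (X.affineOpenCover.X i) k')) :=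
    pullback.congrHom (show X.affineOpenCover.f i ≫ f = Spec.map (CommRingCat.ofHom (algebraMap k (X.affineOpenCover.X i)))
      from hφ.symm) rfl ≪≫ pullbackSpecIso k (X.affineOpenCover.X i) k'
  haveI : IsLocallyNoetherian (pullback (X.affineOpenCover.f i ≫ f) g) := by
    haveI : IsLocallyNoetherian (pullback f g) := isLocallyNoetherian_of_isOpenImmersion h.isoPullback.inv
    haveI : IsOpenImmersion (X.affineOpenCover.f i) := X.affineOpenCover.map_prop i
    haveI : IsOpenImmersion (pullback.snd (X.affineOpenCover.f i) (pullback.fst f g)) :=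
      (inferInstance : IsOpenImmersion (pullback.snd (X.affineOpenCover.f i) (pullback.fst f g)))
    exact isLocallyNoetherian_of_isOpenImmersion
      ((pullbackRightPullbackFstIso f g (X.affineOpenCover.f i)).inv ≫ pullback.snd _ _)
  haveI : IsLocallyNoetherian (Spec (CommRingCat.of (TensorProduct k (X.affineOpenCover.X i) k'))) :=
    isLocallyNoetherian_of_isOpenImmersion e.inv
  haveI : IsNoetherianRing (TensorProduct k (X.affineOpenCover.X i) k') := isLocallyNoetherian_Spec.1 ‹_›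
  haveI : IsNoetherianRing (X.affineOpenCover.X i) :=
    Groth.L19.isNoetherianRing_of_faithfullyFlat (X.affineOpenCover.X i) (TensorProduct k (X.affineOpenCover.X i) k')
  infer_instance

theorem cm_iff_fppf_baseChange {X Y X' Y' : Scheme.{u}} (f : X ⟶ Y) (f' : X' ⟶ Y') (g' : X' ⟶ X) (g : Y' ⟶ Y)
    [Flat g] [LocallyOfFinitePresentation g] [Surjective g] (hc : IsPullback g' f' f g) :
    ((∀ y : Y, IsLocallyNoetherian (f.fiber y)) ∧ ∀ x : X, MoreMor.IsCMAt f x) ↔
      (∀ y' : Y', IsLocallyNoetherian (f'.fiber y')) ∧ ∀ x' : X', MoreMor.IsCMAt f' x' := by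
  constructor
  · rintro ⟨hN, hx⟩
    haveI := hN
    refine ⟨fun y' => ?_, fun x' => (isCMAt_baseChange_fg f g f' g' hc x').1 (hx _)⟩
    letI : Algebra (Y.residueField (g y')) (Y'.residueField y') := (g.residueFieldMap y').hom.toAlgebra
    exact Groth.L21.GorensteinBaseChange.isLocallyNoetherian_of_fg
      (Groth.L21.GorensteinBaseChange.fg_residueFieldMap g y') (f.fiberToSpecResidueField (g y'))
      (isPullback_fiberToSpecResidueField_of_isPullback hc y')
  · rintro ⟨hN', hx'⟩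
    have hN : ∀ y : Y, IsLocallyNoetherian (f.fiber y) := fun y => by
      obtain ⟨y', rfl⟩ := g.surjective y
      letI : Algebra (Y.residueField (g y')) (Y'.residueField y') := (g.residueFieldMap y').hom.toAlgebra
      haveI : IsLocallyNoetherian (pullback f' (Y'.fromSpecResidueField y')) := hN' y'
      exact isLocallyNoetherian_of_baseChange (k := Y.residueField (g y')) (k' := Y'.residueField y')
        (f.fiberToSpecResidueField (g y'))
        (isPullback_fiberToSpecResidueField_of_isPullback hc y')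
    haveI := hN
    refine ⟨hN, fun x => ?_⟩
    haveI : Surjective g' := MorphismProperty.of_isPullback hc.flip ‹_›
    obtain ⟨x', rfl⟩ := g'.surjective x
    exact (isCMAt_baseChange_fg f g f' g' hc x').2.2 (Flat.stalkMap g _) (hx' x')

end L02.CMMor
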