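import Groth.Agent.L02.CMMor.FibreDim
import Groth.Agent.L02.CMMor.Groupoid
import Groth.Agent.L20.FibreScheme
import Groth.Agent.L21.Smooth.Scheme
import Mathlib.AlgebraicGeometry.AffineSpace
import Mathlib.AlgebraicGeometry.Morphisms.Smooth

/-! Cohen–Macaulay at a point = locally quasi-finite flat over affine space. -/

set_option autoImplicit false
set_option linter.style.haveILetI false
universe u

open CategoryTheory CategoryTheory.Limits AlgebraicGeometry IsLocalRing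

namespace L02.CMMor

set_option backward.isDefEq.respectTransparency.types false in
theorem smooth_affineSpace (n : Type u) [Finite n] (S : Scheme.{u}) : Smooth (𝔸(n; S) ↘ S) :=
  MorphismProperty.pullback_fst _ _ <| by
  have := isIso_of_isTerminal specULiftZIsTerminal.{u} terminalIsTerminal (terminal.from _)
  rw [← terminal.comp_from (Spec.map (CommRingCat.ofHom MvPolynomial.C)),
    MorphismProperty.cancel_right_of_respectsIso (P := @Smooth),
    HasRingHomProperty.Spec_iff (P := @Smooth), RingHom.Smooth]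
  convert! (⟨inferInstance, inferInstance⟩ : Algebra.Smooth (ULift.{u} ℤ) (MvPolynomial n (ULift.{u} ℤ)))
  exact Algebra.algebra_ext _ _ fun _ ↦ rfl

/-- Smooth morphisms are Cohen–Macaulay. -/
theorem isCMAt_of_smooth {X S : Scheme.{u}} (f : X ⟶ S) [Smooth f] (x : X) : MoreMor.IsCMAt f x := by
  refine ⟨Flat.stalkMap f x, ?_⟩
  have hs : Smooth (f.fiberToSpecResidueField (f x)) :=
    MorphismProperty.pullback_snd f (S.fromSpecResidueField (f x)) inferInstance
  haveI := @Groth.L21.Smooth.regular_stalk _ _ _ (f.fiberToSpecResidueField (f x)) hs (f.asFiber x)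
  exact Groth.L04.isCohenMacaulayLocalRing_of_regular _

/-- The composite of Cohen–Macaulay local maps is one. -/
theorem cm_comp {R M L : Type u} [CommRing R] [IsLocalRing R] [CommRing M] [IsLocalRing M] [CommRing L]
    [IsLocalRing L] (ψ : R →+* M) (φ : M →+* L) [IsLocalHom ψ] [IsLocalHom φ] (hψ : ψ.Flat) (hφ : φ.Flat)
    (h₁ : LocCoh.IsCohenMacaulayLocalRing (M ⧸ (maximalIdeal R).map ψ))
    (h₂ : LocCoh.IsCohenMacaulayLocalRing (L ⧸ (maximalIdeal M).map φ))
    [IsNoetherianRing (L ⧸ (maximalIdeal R).map (φ.comp ψ))] :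
    (φ.comp ψ).Flat ∧ LocCoh.IsCohenMacaulayLocalRing (L ⧸ (maximalIdeal R).map (φ.comp ψ)) := by
  refine ⟨RingHom.Flat.comp hψ hφ, ?_⟩
  haveI := h₁
  let I := (maximalIdeal R).map ψ
  let J := (maximalIdeal R).map (φ.comp ψ)
  have hJI : I.map φ = J := Ideal.map_map ψ φ
  let q : M ⧸ I →+* L ⧸ J := Ideal.quotientMap J φ (Ideal.map_le_iff_le_comap.mp hJI.le)
  have hJne : J ≠ ⊤ := fun h => (maximalIdeal.isMaximal L).ne_top
    (top_le_iff.mp (h ▸ (IsLocalRing.map_maximalIdeal_le (φ.comp ψ))))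
  haveI : Nontrivial (L ⧸ J) := Ideal.Quotient.nontrivial_iff.mpr hJne
  haveI : IsLocalRing (L ⧸ J) := IsLocalRing.of_surjective' _ Ideal.Quotient.mk_surjective
  haveI : IsLocalHom q := by
    refine ⟨fun a ha => ?_⟩
    obtain ⟨a, rfl⟩ := Ideal.Quotient.mk_surjective a
    haveI : IsLocalHom (Ideal.Quotient.mk J) := IsLocalHom.of_surjective _ Ideal.Quotient.mk_surjective
    have h3 : IsUnit (φ a) := IsUnit.of_map (Ideal.Quotient.mk J) _ ha
    exact (IsUnit.of_map φ a h3).map _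
  letI : Algebra (M ⧸ I) (L ⧸ J) := q.toAlgebra
  haveI : IsLocalHom (algebraMap (M ⧸ I) (L ⧸ J)) := ‹IsLocalHom q›
  haveI : Module.Flat (M ⧸ I) (L ⧸ J) := by
    letI := φ.toAlgebra
    haveI : Module.Flat M L := hφ
    have hflat : Module.Flat (M ⧸ I) (TensorProduct M (M ⧸ I) L) := inferInstance
    let e := ((Algebra.TensorProduct.quotIdealMapEquivTensorQuot L I).restrictScalars M).toLinearEquiv ≪≫ₗ
      (Algebra.TensorProduct.comm M L (M ⧸ I)).toLinearEquiv
    let e' : L ⧸ J ≃+* L ⧸ I.map (algebraMap M L) := Ideal.quotEquivOfEq hJI.symm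
    haveI : IsScalarTower M (M ⧸ I) (L ⧸ J) := IsScalarTower.of_algebraMap_eq fun _ => rfl
    let lin : (L ⧸ J) →ₗ[M ⧸ I] TensorProduct M (M ⧸ I) L :=
      { toFun := fun z => e (e' z)
        map_add' := fun z w => by rw [map_add, map_add]
        map_smul' := fun r z => by
          obtain ⟨r, rfl⟩ := Ideal.Quotient.mk_surjective r
          obtain ⟨z, rfl⟩ := Ideal.Quotient.mk_surjective z
          rw [RingHom.id_apply, ← Ideal.Quotient.algebraMap_eq, algebraMap_smul, algebraMap_smul, ← map_smul e]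
          congr 1 }
    exact Module.Flat.of_linearEquiv (LinearEquiv.ofBijective lin (e.bijective.comp e'.bijective))
  refine (cm_iff_of_flat (M ⧸ I) (L ⧸ J)).mpr ⟨h₁, cm_of_ringEquiv ?_ h₂⟩
  have hm : (maximalIdeal M).map (Ideal.Quotient.mk I) = maximalIdeal (M ⧸ I) :=
    IsLocalRing.map_maximalIdeal_of_surjective _ Ideal.Quotient.mk_surjective
  refine ((Ideal.quotEquivOfEq (show (maximalIdeal M).map φ = J ⊔ (maximalIdeal M).map φ from
    (sup_eq_right.mpr ((hJI.symm.le).trans (Ideal.map_mono (IsLocalRing.map_maximalIdeal_le ψ)))).symm)).trans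
    (DoubleQuot.quotQuotEquivQuotSup J ((maximalIdeal M).map φ)).symm).trans (Ideal.quotEquivOfEq ?_)
  show ((maximalIdeal M).map φ).map (Ideal.Quotient.mk J) = EGA4.mB (M ⧸ I) (L ⧸ J)
  show _ = (maximalIdeal (M ⧸ I)).map q
  rw [← hm, Ideal.map_map, Ideal.map_map]
  congr 1

/-- The easy direction. -/
theorem isCMAt_of_chart {X Y : Scheme.{u}} (f : X ⟶ Y) [LocallyOfFinitePresentation f] (x : X) (n : ℕ)
    (U : X.Opens) (hx : x ∈ U) (g : (U : Scheme.{u}) ⟶ 𝔸(ULift.{u} (Fin n); Y))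
    (hg : g ≫ (𝔸(ULift.{u} (Fin n); Y) ↘ Y) = U.ι ≫ f) [LocallyQuasiFinite g]
    (hflat : (g.stalkMap ⟨x, hx⟩).hom.Flat) : MoreMor.IsCMAt f x := by
  let z : (U : Scheme.{u}) := ⟨x, hx⟩
  refine (isCMAt_openImmersion_comp U.ι f z).1 ?_
  rw [← hg, ← grpd_isCMAt_iff]
  let π := 𝔸(ULift.{u} (Fin n); Y) ↘ Y
  haveI : Smooth π := smooth_affineSpace _ Y
  haveI : LocallyOfFinitePresentation (g ≫ π) := by rw [hg]; infer_instance
  haveI : LocallyOfFiniteType g := by
    haveI := Groth.L20.locallyOfFinitePresentation_of_comp g π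
    infer_instance
  have h₁ := ((grpd_isCMAt_iff π (g z)).2 (isCMAt_of_smooth π (g z))).2
  have h₂ : LocCoh.IsCohenMacaulayLocalRing
      ((U : Scheme.{u}).presheaf.stalk z ⧸ (maximalIdeal (𝔸(ULift.{u} (Fin n); Y).presheaf.stalk (g z))).map (g.stalkMap z).hom) := by
    letI := (g.stalkMap z).hom.toAlgebra
    obtain ⟨e⟩ := Groth.L07.CIScheme.exists_fiberStalkEquiv g (g z) (g.asFiber z) z (g.fiberι_asFiber z)
    haveI : LocallyOfFiniteType (g.fiberToSpecResidueField (g z)) :=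
      MorphismProperty.pullback_snd g (Scheme.fromSpecResidueField _ (g z)) inferInstance
    haveI := LocallyOfFiniteType.isLocallyNoetherian (g.fiberToSpecResidueField (g z))
    haveI : DiscreteTopology ↥(g.fiber (g z)) := inferInstance
    refine cm_of_ringEquiv e.symm (cm_of_dim_le_zero ?_)
    rw [← PrimeSpectrum.topologicalKrullDim_eq_ringKrullDim]
    exact ((g.fiber (g z)).fromSpecStalk (g.asFiber z)).isEmbedding.isInducing.topologicalKrullDim_le.trans
      (topologicalKrullDim_zero_of_discreteTopology _)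
  have hN : IsNoetherianRing ((U : Scheme.{u}).presheaf.stalk z ⧸
      (maximalIdeal (Y.presheaf.stalk ((g ≫ π) z))).map ((g ≫ π).stalkMap z).hom) := by
    letI := ((g ≫ π).stalkMap z).hom.toAlgebra
    obtain ⟨e⟩ := Groth.L07.CIScheme.exists_fiberStalkEquiv (g ≫ π) ((g ≫ π) z) ((g ≫ π).asFiber z) z
      ((g ≫ π).fiberι_asFiber z)
    haveI : LocallyOfFiniteType ((g ≫ π).fiberToSpecResidueField ((g ≫ π) z)) :=
      MorphismProperty.pullback_snd (g ≫ π) (Y.fromSpecResidueField ((g ≫ π) z)) inferInstance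
    haveI := LocallyOfFiniteType.isLocallyNoetherian ((g ≫ π).fiberToSpecResidueField ((g ≫ π) z))
    exact isNoetherianRing_of_ringEquiv _ e.symm
  have hc : ((g ≫ π).stalkMap z).hom = (g.stalkMap z).hom.comp (π.stalkMap (g z)).hom :=
    congrArg CommRingCat.Hom.hom (Scheme.Hom.stalkMap_comp g π z)
  haveI : IsNoetherianRing ((U : Scheme.{u}).presheaf.stalk z ⧸
      (maximalIdeal (Y.presheaf.stalk (π (g z)))).map ((g.stalkMap z).hom.comp (π.stalkMap (g z)).hom)) := by
    rw [← hc]; exact hN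
  have := cm_comp (π.stalkMap (g z)).hom (g.stalkMap z).hom (Flat.stalkMap π _) hflat h₁ h₂
  unfold Grpd.IsCMAt
  rw [hc]
  exact this

/-- The slicing direction. -/
theorem exists_chart {X Y : Scheme.{u}} (f : X ⟶ Y) [LocallyOfFinitePresentation f] (x : X)
    (hcm : MoreMor.IsCMAt f x) :
    ∃ (n : ℕ) (U : X.Opens) (hx : x ∈ U) (g : (U : Scheme.{u}) ⟶ 𝔸(ULift.{u} (Fin n); Y)),
      g ≫ (𝔸(ULift.{u} (Fin n); Y) ↘ Y) = U.ι ≫ f ∧ LocallyQuasiFinite g ∧ (g.stalkMap ⟨x, hx⟩).hom.Flat := by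
  classical
  -- a closed specialisation in the fibre which is still Cohen–Macaulay
  obtain ⟨x₀, hxx₀, hcm₀, hcl₀⟩ : ∃ x₀, x ⤳ x₀ ∧ MoreMor.IsCMAt f x₀ ∧
      IsClosed ({f.asFiber x₀} : Set ↑(f.fiber (f x₀))) := by
    let O : X.Opens := ⟨{y | (f.stalkMap y).hom.Flat}, Groth.L20.isOpen_flat_stalkMap f⟩
    haveI : Flat (O.ι ≫ f) := by
      refine (Flat.iff_flat_stalkMap _).mpr fun y => ?_
      rw [Scheme.Hom.stalkMap_comp]
      exact RingHom.Flat.comp y.2 (RingHom.Flat.of_bijective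
        (ConcreteCategory.bijective_of_isIso (O.ι.stalkMap y)))
    have hopen : IsOpen {y : X | MoreMor.IsCMAt f y} := by
      have h : {y : X | MoreMor.IsCMAt f y} = O.ι '' {y | MoreMor.IsCMAt (O.ι ≫ f) y} := by
        ext y
        constructor
        · exact fun hy => ⟨⟨y, hy.1⟩, (isCMAt_openImmersion_comp O.ι f _).2 hy, rfl⟩
        · rintro ⟨w, hw, rfl⟩
          exact (isCMAt_openImmersion_comp O.ι f w).1 hw
      rw [h]
      exact O.ι.isOpenEmbedding.isOpenMap _ (isOpen_cmLocus _)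
    let F := f.fiber (f x)
    haveI : LocallyOfFiniteType (f.fiberToSpecResidueField (f x)) :=
      MorphismProperty.pullback_snd f (Y.fromSpecResidueField (f x)) inferInstance
    haveI : JacobsonSpace F := LocallyOfFiniteType.jacobsonSpace (f.fiberToSpecResidueField (f x))
    obtain ⟨z, ⟨hz₁, hz₂⟩, hzc⟩ := nonempty_inter_closedPoints (X := F)
      (Z := f.fiberι (f x) ⁻¹' {y : X | MoreMor.IsCMAt f y} ∩ closure {f.asFiber x})
      ⟨f.asFiber x, show MoreMor.IsCMAt f (f.fiberι (f x) (f.asFiber x)) by rw [f.fiberι_asFiber]; exact hcm,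
        subset_closure rfl⟩
      ((hopen.preimage (f.fiberι (f x)).continuous).isLocallyClosed.inter isClosed_closure.isLocallyClosed)
    refine ⟨f.fiberι (f x) z, ?_, hz₁, isClosed_asFiber f (f x) z _ rfl hzc⟩
    have := (specializes_iff_mem_closure.mpr hz₂).map (f.fiberι (f x)).continuous
    rwa [f.fiberι_asFiber] at this
  obtain ⟨c, V, hV, U, hU, hUV, hx, t, hgerm, -, hflat, hiso⟩ :=
    L02.CAlg.QFSlice.exists_slice_isolated f x₀ hcm₀ hcl₀
  letI : Algebra Γ(Y, V) Γ(X, U) := (f.appLE V U hUV).hom.toAlgebra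
  haveI : Algebra.FinitePresentation Γ(Y, V) Γ(X, U) := f.finitePresentation_appLE hV hU hUV
  obtain ⟨φ, hφ⟩ : ∃ φ : MvPolynomial (Fin c) Γ(Y, V) →ₐ[Γ(Y, V)] Γ(X, U), φ = MvPolynomial.aeval t := ⟨_, rfl⟩
  letI : Algebra (MvPolynomial (Fin c) Γ(Y, V)) Γ(X, U) := φ.toRingHom.toAlgebra
  haveI : IsScalarTower Γ(Y, V) (MvPolynomial (Fin c) Γ(Y, V)) Γ(X, U) :=
    IsScalarTower.of_algebraMap_eq fun r => (φ.commutes r).symm
  haveI : Module.Flat (MvPolynomial (Fin c) Γ(Y, V)) Γ(X, U) := by subst hφ; exact hflat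
  haveI : Algebra.FiniteType (MvPolynomial (Fin c) Γ(Y, V)) Γ(X, U) :=
    Algebra.FiniteType.of_restrictScalars_finiteType Γ(Y, V) _ _
  let q := (hU.primeIdealOf ⟨x₀, hx⟩).asIdeal
  letI : Algebra Γ(X, U) (X.presheaf.stalk x₀) := (X.presheaf.germ U x₀ hx).hom.toAlgebra
  haveI hloc : IsLocalization.AtPrime (X.presheaf.stalk x₀) q := hU.isLocalization_stalk ⟨x₀, hx⟩
  have hX : ∀ i, algebraMap (MvPolynomial (Fin c) Γ(Y, V)) Γ(X, U) (MvPolynomial.X i) = t i := fun i => by
    show φ (MvPolynomial.X i) = t i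
    rw [hφ, MvPolynomial.aeval_X]
  haveI : Algebra.QuasiFiniteAt (MvPolynomial (Fin c) Γ(Y, V)) q :=
    haveI : q.LiesOver (q.under (MvPolynomial (Fin c) Γ(Y, V))) := ⟨rfl⟩
    L02.CAlg.QFSlice.quasiFiniteAt_of_isolated (q.under (MvPolynomial (Fin c) Γ(Y, V))) q
    fun q' hq' hq'p hcomp => hiso q' hq' (Ideal.span_le.mpr fun a ha => by
        obtain ⟨i, rfl⟩ := List.mem_ofFn.mp ha
        have h1 : MvPolynomial.X i ∈ q.under (MvPolynomial (Fin c) Γ(Y, V)) := by
          show algebraMap _ Γ(X, U) (MvPolynomial.X i) ∈ q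
          rw [hX]
          exact (IsLocalization.AtPrime.to_map_mem_maximal_iff (X.presheaf.stalk x₀) q _).mp (hgerm i)
        rw [hq'p.over] at h1
        rw [SetLike.mem_coe, ← hX]
        exact h1)
      (by rw [← Ideal.under_under (A := Γ(Y, V)) (B := MvPolynomial (Fin c) Γ(Y, V)) q', ← hq'p.over,
        Ideal.under_under])
      hcomp
  obtain ⟨r, hr, hQF⟩ := Groth.L07.FibreDim.exists_away_quasiFinite (S := MvPolynomial (Fin c) Γ(Y, V)) q
  let W := X.basicOpen r
  have hW : IsAffineOpen W := hU.basicOpen r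
  have hWU : W ≤ U := X.basicOpen_le r
  letI : Algebra Γ(X, U) Γ(X, W) := (X.presheaf.map (homOfLE hWU).op).hom.toAlgebra
  haveI : IsLocalization.Away r Γ(X, W) := hU.isLocalization_basicOpen r
  have hxW : x ∈ W := hxx₀.mem_open W.2 (by
    show x₀ ∈ X.basicOpen r
    rw [Scheme.mem_basicOpen X r x₀ hx]
    exact IsLocalization.map_units (X.presheaf.stalk x₀) (⟨r, hr⟩ : q.primeCompl))
  let ψ : MvPolynomial (ULift.{u} (Fin c)) Γ(Y, V) →+* Γ(X, W) :=
    (algebraMap Γ(X, U) Γ(X, W)).comp (φ.toRingHom.comp (MvPolynomial.renameEquiv Γ(Y, V) Equiv.ulift).toRingHom)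
  have hre : Function.Bijective (MvPolynomial.renameEquiv Γ(Y, V) (Equiv.ulift : ULift.{u} (Fin c) ≃ Fin c)).toRingHom :=
    (MvPolynomial.renameEquiv Γ(Y, V) (Equiv.ulift : ULift.{u} (Fin c) ≃ Fin c)).bijective
  have hψflat : ψ.Flat := by
    refine RingHom.Flat.comp (RingHom.Flat.comp (RingHom.Flat.of_bijective hre) (RingHom.flat_algebraMap_iff.mpr ?_))
      (RingHom.flat_algebraMap_iff.mpr (IsLocalization.flat Γ(X, W) (Submonoid.powers r)))
    infer_instance
  have hψqf : ψ.QuasiFinite := by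
    letI : Algebra (MvPolynomial (Fin c) Γ(Y, V)) Γ(X, W) := ((algebraMap Γ(X, U) Γ(X, W)).comp φ.toRingHom).toAlgebra
    haveI : IsScalarTower (MvPolynomial (Fin c) Γ(Y, V)) Γ(X, U) Γ(X, W) := IsScalarTower.of_algebraMap_eq fun _ => rfl
    have h1 : Algebra.QuasiFinite (MvPolynomial (Fin c) Γ(Y, V)) Γ(X, W) :=
      Algebra.QuasiFinite.of_surjective_algHom
        ((IsLocalization.algEquiv (Submonoid.powers r) (Localization.Away r) Γ(X, W)).toAlgHom.restrictScalars
          (MvPolynomial (Fin c) Γ(Y, V))) (AlgEquiv.surjective _)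
    have := RingHom.QuasiFinite.comp (f := (algebraMap Γ(X, U) Γ(X, W)).comp φ.toRingHom)
      (g := (MvPolynomial.renameEquiv Γ(Y, V) (Equiv.ulift : ULift.{u} (Fin c) ≃ Fin c)).toRingHom)
      (RingHom.quasiFinite_algebraMap.mpr h1) (RingHom.QuasiFinite.of_finite (RingHom.Finite.of_surjective _ hre.2))
    exact this
  let g : (W : Scheme.{u}) ⟶ 𝔸(ULift.{u} (Fin c); Y) := hW.isoSpec.hom ≫ Spec.map (CommRingCat.ofHom ψ) ≫
    (AffineSpace.SpecIso (ULift.{u} (Fin c)) Γ(Y, V)).inv ≫ AffineSpace.map (ULift.{u} (Fin c)) hV.fromSpec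
  haveI : IsOpenImmersion (AffineSpace.map (ULift.{u} (Fin c)) hV.fromSpec) :=
    MorphismProperty.of_isPullback (AffineSpace.isPullback_map (n := ULift.{u} (Fin c)) hV.fromSpec).flip inferInstance
  haveI : Flat (Spec.map (CommRingCat.ofHom ψ)) := Flat.SpecMap_iff.mpr hψflat
  haveI : LocallyQuasiFinite (Spec.map (CommRingCat.ofHom ψ)) := HasRingHomProperty.Spec_iff.mpr hψqf
  haveI : Flat g := inferInstanceAs (Flat (_ ≫ _ ≫ _ ≫ _))
  refine ⟨c, W, hxW, g, ?_, inferInstanceAs (LocallyQuasiFinite (_ ≫ _ ≫ _ ≫ _)), Flat.stalkMap g _⟩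
  have hC : ψ.comp MvPolynomial.C = (f.appLE V W (hWU.trans hUV)).hom := by
    refine RingHom.ext fun a => ?_
    show algebraMap Γ(X, U) Γ(X, W) (φ (MvPolynomial.rename _ (MvPolynomial.C a))) = _
    rw [MvPolynomial.rename_C, ← MvPolynomial.algebraMap_eq, φ.commutes]
    exact congrArg (fun m : Γ(Y, V) ⟶ Γ(X, W) => m a) (Scheme.Hom.appLE_map f hUV (homOfLE hWU).op)
  show (hW.isoSpec.hom ≫ Spec.map (CommRingCat.ofHom ψ) ≫
    (AffineSpace.SpecIso (ULift.{u} (Fin c)) Γ(Y, V)).inv ≫ AffineSpace.map _ hV.fromSpec) ≫ _ = _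
  rw [Category.assoc, Category.assoc, Category.assoc, AffineSpace.map_over, AffineSpace.SpecIso_inv_over_assoc,
    ← Category.assoc (Spec.map _), ← Spec.map_comp,
    show CommRingCat.ofHom MvPolynomial.C ≫ CommRingCat.ofHom ψ = f.appLE V W (hWU.trans hUV) from
      CommRingCat.hom_ext hC,
    IsAffineOpen.SpecMap_appLE_fromSpec f hV hW (hWU.trans hUV), ← Category.assoc]
  congr 1
  exact hW.isoSpec_hom_fromSpec

end L02.CMMor
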