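import Groth.Agent.L02.CMMor.Local
import Groth.Agent.L21.GorensteinBaseChangeFG
import Groth.Prelude.Def_MoreMor
import Groth.Prelude.Def_Grpd

/-! Cohen–Macaulay points of morphisms and base change. -/

set_option autoImplicit false
set_option linter.style.haveILetI false
set_option maxSynthPendingDepth 3
universe u

open CategoryTheory CategoryTheory.Limits AlgebraicGeometry IsLocalRing Groth.L21.GorensteinBaseChange

namespace L02.CMMor

theorem cm_fibre_iff {X Y : Scheme.{u}} (f : X ⟶ Y) (x : X) :
    letI := (f.stalkMap x).hom.toAlgebra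
    LocCoh.IsCohenMacaulayLocalRing (EGA4.FibRing (Y.presheaf.stalk (f x)) (X.presheaf.stalk x)) ↔
      LocCoh.IsCohenMacaulayLocalRing ((f.fiber (f x)).presheaf.stalk (f.asFiber x)) := by
  letI := (f.stalkMap x).hom.toAlgebra
  obtain ⟨e⟩ := Groth.L07.CIScheme.exists_fiberStalkEquiv f (f x) (f.asFiber x) x (f.fiberι_asFiber x)
  exact ⟨cm_of_ringEquiv e, cm_of_ringEquiv e.symm⟩

/-- The two definitions of a Cohen–Macaulay point agree. -/
theorem grpd_isCMAt_iff {X Y : Scheme.{u}} (f : X ⟶ Y) (x : X) : Grpd.IsCMAt f x ↔ MoreMor.IsCMAt f x :=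
  and_congr Iff.rfl (cm_fibre_iff f x)

theorem cm_tensor_field (k K L : Type u) [Field k] [Field K] [Field L] [Algebra k K] [Algebra k L]
    (h : (∃ s : Finset K, IntermediateField.adjoin k (s : Set K) = ⊤) ∨
      ∃ s : Finset L, IntermediateField.adjoin k (s : Set L) = ⊤) :
    IsNoetherianRing (TensorProduct k K L) ∧ LocCoh.IsCohenMacaulayRing (TensorProduct k K L) := by
  rcases h with h | h
  · haveI : Algebra.EssFiniteType k K := IntermediateField.fg_top_iff.1 h
    have := isCohenMacaulayRing_tensor k K L
    exact ⟨inferInstance, this⟩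
  · haveI : Algebra.EssFiniteType k L := IntermediateField.fg_top_iff.1 h
    have := isCohenMacaulayRing_of_ringEquiv (Algebra.TensorProduct.comm k L K).toRingEquiv
      (isCohenMacaulayRing_tensor k L K)
    exact ⟨inferInstance, this⟩

variable {k k' : Type u} [Field k] [Field k'] [Algebra k k'] {X : Scheme.{u}}

/-- The fibres of a change of base field have Cohen–Macaulay local rings, given this for the residue fields. -/
theorem isCM_fibre (f : X ⟶ Spec (CommRingCat.of k)) (x : X)
    (hres : letI := (Spec.preimage (X.fromSpecResidueField x ≫ f)).hom.toAlgebra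
      IsNoetherianRing (TensorProduct k (X.residueField x) k') ∧
        LocCoh.IsCohenMacaulayRing (TensorProduct k (X.residueField x) k'))
    (y : (pullback.fst f (Spec.map (CommRingCat.ofHom (algebraMap k k')))).fiber x) :
    LocCoh.IsCohenMacaulayLocalRing
      (((pullback.fst f (Spec.map (CommRingCat.ofHom (algebraMap k k')))).fiber x).presheaf.stalk y) := by
  let g := Spec.map (CommRingCat.ofHom (algebraMap k k'))
  let φ : CommRingCat.of k ⟶ X.residueField x := Spec.preimage (X.fromSpecResidueField x ≫ f)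
  have hφ : Spec.map φ = X.fromSpecResidueField x ≫ f := Spec.map_preimage _
  letI := φ.hom.toAlgebra
  obtain ⟨hN, hL⟩ := hres
  let W := Spec (CommRingCat.of (TensorProduct k (X.residueField x) k'))
  let e : (pullback.fst f g).fiber x ≅ W :=
    (pullbackSymmetry (pullback.fst f g) (X.fromSpecResidueField x)) ≪≫
      pullbackRightPullbackFstIso f g (X.fromSpecResidueField x) ≪≫
      pullback.congrHom (hφ.symm) rfl ≪≫ pullbackSpecIso k (X.residueField x) k'
  let w : W := e.hom y
  haveI hwp : (show PrimeSpectrum (TensorProduct k (X.residueField x) k') from w).asIdeal.IsPrime :=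
    PrimeSpectrum.isPrime _
  let eR : W.presheaf.stalk w ≃+* ((pullback.fst f g).fiber x).presheaf.stalk y :=
    (asIso (e.hom.stalkMap y)).commRingCatIsoToRingEquiv
  haveI : IsNoetherianRing (TensorProduct k (X.residueField x) k') := hN
  letI : Algebra (TensorProduct k (X.residueField x) k') (W.presheaf.stalk w) :=
    StructureSheaf.stalkAlgebra _ w
  haveI : IsLocalization.AtPrime (W.presheaf.stalk w) w.asIdeal := StructureSheaf.IsLocalization.to_stalk _ w
  haveI : IsNoetherianRing (W.presheaf.stalk w) :=
    IsLocalization.isNoetherianRing w.asIdeal.primeCompl _ hN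
  haveI : IsNoetherianRing (Localization.AtPrime w.asIdeal) :=
    IsLocalization.isNoetherianRing w.asIdeal.primeCompl _ hN
  haveI := isNoetherianRing_of_ringEquiv _ eR
  exact cm_of_ringEquiv
    ((IsLocalization.algEquiv w.asIdeal.primeCompl (Localization.AtPrime w.asIdeal)
      (W.presheaf.stalk w)).toRingEquiv.trans eR) (hL.isCohenMacaulayLocalRing_localization w.asIdeal)

/-- A point of a base change to a larger field is Cohen–Macaulay iff its image is. -/
theorem cm_iff_of_field (f : X ⟶ Spec (CommRingCat.of k)) [IsLocallyNoetherian X]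
    [IsLocallyNoetherian (pullback f (Spec.map (CommRingCat.ofHom (algebraMap k k'))))]
    (z : ↥(pullback f (Spec.map (CommRingCat.ofHom (algebraMap k k')))))
    (hres : letI := (Spec.preimage
        (X.fromSpecResidueField (pullback.fst f (Spec.map (CommRingCat.ofHom (algebraMap k k'))) z) ≫ f)).hom.toAlgebra
      IsNoetherianRing (TensorProduct k
          (X.residueField (pullback.fst f (Spec.map (CommRingCat.ofHom (algebraMap k k'))) z)) k') ∧
        LocCoh.IsCohenMacaulayRing (TensorProduct k
          (X.residueField (pullback.fst f (Spec.map (CommRingCat.ofHom (algebraMap k k'))) z)) k')) :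
    LocCoh.IsCohenMacaulayLocalRing ((pullback f (Spec.map (CommRingCat.ofHom (algebraMap k k')))).presheaf.stalk z) ↔
      LocCoh.IsCohenMacaulayLocalRing
        (X.presheaf.stalk (pullback.fst f (Spec.map (CommRingCat.ofHom (algebraMap k k'))) z)) := by
  haveI : Flat (Spec.map (CommRingCat.ofHom (algebraMap k k'))) := by
    rw [HasRingHomProperty.Spec_iff (P := @Flat)]
    exact RingHom.flat_algebraMap_iff.mpr inferInstance
  let p := pullback.fst f (Spec.map (CommRingCat.ofHom (algebraMap k k')))
  haveI : Flat p := inferInstance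
  letI := (p.stalkMap z).hom.toAlgebra
  haveI : Module.Flat (X.presheaf.stalk (p z)) ((pullback f (Spec.map (CommRingCat.ofHom (algebraMap k k')))).presheaf.stalk z) :=
    Flat.stalkMap p z
  haveI : IsLocalHom (algebraMap (X.presheaf.stalk (p z)) ((pullback f (Spec.map (CommRingCat.ofHom (algebraMap k k')))).presheaf.stalk z)) :=
    inferInstanceAs (IsLocalHom (p.stalkMap z).hom)
  rw [cm_iff_of_flat (X.presheaf.stalk (p z))
    ((pullback f (Spec.map (CommRingCat.ofHom (algebraMap k k')))).presheaf.stalk z)]
  exact ⟨fun h => h.1, fun h => ⟨h, (cm_fibre_iff p z).2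
    (isCM_fibre f (p z) hres (p.asFiber z))⟩⟩

theorem cm_iff_of_isPullback (f : X ⟶ Spec (CommRingCat.of k)) [IsLocallyNoetherian X]
    {X' : Scheme.{u}} {p : X' ⟶ X} {q : X' ⟶ Spec (CommRingCat.of k')}
    (h : IsPullback p q f (Spec.map (CommRingCat.ofHom (algebraMap k k')))) [IsLocallyNoetherian X']
    (hres : ∀ x : X, letI := (Spec.preimage (X.fromSpecResidueField x ≫ f)).hom.toAlgebra
      IsNoetherianRing (TensorProduct k (X.residueField x) k') ∧
        LocCoh.IsCohenMacaulayRing (TensorProduct k (X.residueField x) k'))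
    (z : X') :
    LocCoh.IsCohenMacaulayLocalRing (X'.presheaf.stalk z) ↔ LocCoh.IsCohenMacaulayLocalRing (X.presheaf.stalk (p z)) := by
  let e := h.isoPullback
  haveI : IsLocallyNoetherian (pullback f (Spec.map (CommRingCat.ofHom (algebraMap k k')))) :=
    isLocallyNoetherian_of_isOpenImmersion e.inv
  let eR : (pullback f (Spec.map (CommRingCat.ofHom (algebraMap k k')))).presheaf.stalk (e.hom z) ≃+*
      X'.presheaf.stalk z := (asIso (e.hom.stalkMap z)).commRingCatIsoToRingEquiv
  have he : pullback.fst f (Spec.map (CommRingCat.ofHom (algebraMap k k'))) (e.hom z) = p z :=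
    congrArg (fun m : X' ⟶ X => m z) h.isoPullback_hom_fst
  rw [← he, ← cm_iff_of_field f (e.hom z) (hres _)]
  exact ⟨cm_of_ringEquiv eR.symm,
    cm_of_ringEquiv eR⟩

/-- Residue fields of schemes locally of finite type over a field tensor well with every field. -/
theorem res_of_locallyOfFiniteType (f : X ⟶ Spec (CommRingCat.of k)) [LocallyOfFiniteType f] (x : X) :
    letI := (Spec.preimage (X.fromSpecResidueField x ≫ f)).hom.toAlgebra
    IsNoetherianRing (TensorProduct k (X.residueField x) k') ∧
      LocCoh.IsCohenMacaulayRing (TensorProduct k (X.residueField x) k') := by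
  letI := (Spec.preimage (X.fromSpecResidueField x ≫ f)).hom.toAlgebra
  exact cm_tensor_field k (X.residueField x) k' (Or.inl (Groth.L07.CIScheme.residueField_fg f x _ (Spec.map_preimage _)))

/-- The Cohen–Macaulay locus of a flat morphism locally of finite type commutes with base change. -/
theorem isCMAt_baseChange {X Y X' Y' : Scheme.{u}} (f : X ⟶ Y) [Flat f] [LocallyOfFiniteType f]
    (g : Y' ⟶ Y) (f' : X' ⟶ Y') (g' : X' ⟶ X) (hsq : IsPullback g' f' f g) (x' : X') :
    MoreMor.IsCMAt f' x' ↔ MoreMor.IsCMAt f (g' x') := by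
  haveI : Flat f' := MorphismProperty.of_isPullback hsq inferInstance
  haveI : LocallyOfFiniteType f' := MorphismProperty.of_isPullback hsq inferInstance
  set y' := f' x'
  letI : Algebra (Y.residueField (g y')) (Y'.residueField y') := (g.residueFieldMap y').hom.toAlgebra
  haveI : LocallyOfFiniteType (f.fiberToSpecResidueField (g y')) :=
    (inferInstance : LocallyOfFiniteType (pullback.snd f (Y.fromSpecResidueField (g y'))))
  haveI : LocallyOfFiniteType (f'.fiberToSpecResidueField y') :=
    (inferInstance : LocallyOfFiniteType (pullback.snd f' (Y'.fromSpecResidueField y')))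
  haveI := LocallyOfFiniteType.isLocallyNoetherian (f.fiberToSpecResidueField (g y'))
  haveI := LocallyOfFiniteType.isLocallyNoetherian (f'.fiberToSpecResidueField y')
  have sq := isPullback_fiberToSpecResidueField_of_isPullback hsq y'
  have key := cm_iff_of_isPullback (k := Y.residueField (g y')) (k' := Y'.residueField y')
    (f.fiberToSpecResidueField (g y')) sq (res_of_locallyOfFiniteType _) (f'.asFiber x')
  let m : f'.fiber y' ⟶ f.fiber (g y') := pullback.map f' (Y'.fromSpecResidueField y') f
    (Y.fromSpecResidueField (g y')) g' (Spec.map (g.residueFieldMap y')) g hsq.w.symm (by simp)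
  have hmc : m ≫ f.fiberι (g y') = f'.fiberι y' ≫ g' := pullback.lift_fst _ _ _
  have hm : f.fiberι (g y') (m (f'.asFiber x')) = g' x' :=
    ((congrArg (fun t : f'.fiber y' ⟶ X => t (f'.asFiber x')) hmc).trans
      (congrArg g' (f'.fiberι_asFiber x')))
  letI := (f.stalkMap (g' x')).hom.toAlgebra
  obtain ⟨e⟩ := Groth.L07.CIScheme.exists_fiberStalkEquiv f (g y') _ (g' x') hm
  refine ⟨fun h => ⟨Flat.stalkMap f _, ?_⟩, fun h => ⟨Flat.stalkMap f' _, ?_⟩⟩
  · exact (cm_fibre_iff f (g' x')).1
      (cm_of_ringEquiv e.symm (key.1 h.2))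
  · exact key.2 (cm_of_ringEquiv e
      ((cm_fibre_iff f (g' x')).2 h.2))

/-- The Cohen–Macaulay locus and base change by a morphism locally of finite type. -/
theorem isCMAt_baseChange_fg {X Y X' Y' : Scheme.{u}} (f : X ⟶ Y) (g : Y' ⟶ Y) [LocallyOfFiniteType g]
    (f' : X' ⟶ Y') (g' : X' ⟶ X) (hsq : IsPullback g' f' f g) [∀ y, IsLocallyNoetherian (f.fiber y)] (x' : X') :
    (MoreMor.IsCMAt f (g' x') → MoreMor.IsCMAt f' x') ∧
      ((f.stalkMap (g' x')).hom.Flat → MoreMor.IsCMAt f' x' → MoreMor.IsCMAt f (g' x')) ∧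
      ((g.stalkMap (f' x')).hom.Flat → MoreMor.IsCMAt f' x' → MoreMor.IsCMAt f (g' x')) := by
  set y' := f' x'
  letI : Algebra (Y.residueField (g y')) (Y'.residueField y') := (g.residueFieldMap y').hom.toAlgebra
  have hfg := fg_residueFieldMap g y'
  have sq := isPullback_fiberToSpecResidueField_of_isPullback hsq y'
  haveI := isLocallyNoetherian_of_fg hfg (f.fiberToSpecResidueField (g y')) sq
  have key := cm_iff_of_isPullback (k := Y.residueField (g y')) (k' := Y'.residueField y')
    (f.fiberToSpecResidueField (g y')) sq (fun w => by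
      letI := (Spec.preimage ((f.fiber (g y')).fromSpecResidueField w ≫ f.fiberToSpecResidueField (g y'))).hom.toAlgebra
      exact cm_tensor_field (Y.residueField (g y')) ((f.fiber (g y')).residueField w)
        (Y'.residueField y') (Or.inr hfg)) (f'.asFiber x')
  let m : f'.fiber y' ⟶ f.fiber (g y') := pullback.map f' (Y'.fromSpecResidueField y') f
    (Y.fromSpecResidueField (g y')) g' (Spec.map (g.residueFieldMap y')) g hsq.w.symm (by simp)
  have hmc : m ≫ f.fiberι (g y') = f'.fiberι y' ≫ g' := pullback.lift_fst _ _ _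
  have hm : f.fiberι (g y') (m (f'.asFiber x')) = g' x' :=
    ((congrArg (fun t : f'.fiber y' ⟶ X => t (f'.asFiber x')) hmc).trans
      (congrArg g' (f'.fiberι_asFiber x')))
  letI := (f.stalkMap (g' x')).hom.toAlgebra
  obtain ⟨e⟩ := Groth.L07.CIScheme.exists_fiberStalkEquiv f (g y') _ (g' x') hm
  have hG : LocCoh.IsCohenMacaulayLocalRing ((f'.fiber y').presheaf.stalk (f'.asFiber x')) ↔
      LocCoh.IsCohenMacaulayLocalRing ((f.fiber (f (g' x'))).presheaf.stalk (f.asFiber (g' x'))) :=
    key.trans ⟨fun h => (cm_fibre_iff f (g' x')).1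
      (cm_of_ringEquiv e.symm h),
      fun h => cm_of_ringEquiv e
        ((cm_fibre_iff f (g' x')).2 h)⟩
  refine ⟨fun h => ⟨flat_stalkMap_of_isPullback hsq x' h.1, hG.2 h.2⟩, fun hf h => ⟨hf, hG.1 h.2⟩,
    fun hg h => ⟨?_, hG.1 h.2⟩⟩
  have hg' : (g'.stalkMap x').hom.Flat := flat_stalkMap_of_isPullback hsq.flip x' hg
  have hc : ((g' ≫ f).stalkMap x').hom.Flat :=
    (Groth.L23.flat_stalkMap_congr hsq.w x').2 (Groth.L23.flat_stalkMap_comp f' g x' h.1 hg)
  exact Groth.L20.flat_stalkMap_of_comp g' f x' hc hg'

end L02.CMMor
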