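import Groth.Agent.L02.CMMor.Locus
import Groth.Agent.L07.FibreDimSemi
import Groth.Agent.L07.CIField

/-! The fibre dimension of flat morphisms at Cohen–Macaulay points. -/

set_option autoImplicit false
set_option linter.style.haveILetI false
universe u

open CategoryTheory AlgebraicGeometry IsLocalRing

namespace L02.CMMor

/-- Nonempty fibres of flat quasi-finite algebras over affine space have its dimension. -/
theorem ringKrullDim_fibre_eq {R T : Type u} [CommRing R] [CommRing T] {c : ℕ} [Algebra R T]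
    [Algebra (MvPolynomial (Fin c) R) T] [IsScalarTower R (MvPolynomial (Fin c) R) T]
    [Algebra.QuasiFinite (MvPolynomial (Fin c) R) T] [Module.Flat (MvPolynomial (Fin c) R) T]
    [Algebra.FinitePresentation (MvPolynomial (Fin c) R) T]
    (p : PrimeSpectrum R) (hne : Nontrivial (p.asIdeal.Fiber T)) :
    ringKrullDim (p.asIdeal.Fiber T) = (c : WithBot ℕ∞) := by
  let B := MvPolynomial (Fin c) R
  refine le_antisymm ((Groth.L07.FibreDim.krullDim_fibre_le (S := B) p).trans
    (Groth.L07.FibreDim.ringKrullDim_fibre_mvPolynomial p c).le) ?_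
  obtain ⟨q₀⟩ := (inferInstance : Nonempty (PrimeSpectrum (p.asIdeal.Fiber T)))
  obtain ⟨q, hq⟩ := (PrimeSpectrum.preimageEquivFiber R T p).symm q₀
  let e := PrimeSpectrum.preimageHomeomorphFiber R B p
  let O : Set (PrimeSpectrum (p.asIdeal.Fiber B)) :=
    e '' (Subtype.val ⁻¹' Set.range (PrimeSpectrum.comap (algebraMap B T)))
  have hcomp : ∀ z : PrimeSpectrum T, PrimeSpectrum.comap (algebraMap R B)
      (PrimeSpectrum.comap (algebraMap B T) z) = PrimeSpectrum.comap (algebraMap R T) z := fun z => by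
    rw [IsScalarTower.algebraMap_eq R B T, PrimeSpectrum.comap_comp_apply]
  have hO : IsOpen O := e.isOpenMap _
    ((PrimeSpectrum.isOpenMap_comap_of_hasGoingDown_of_finitePresentation (R := B) (S := T)).isOpen_range.preimage
      continuous_subtype_val)
  have hOne : O.Nonempty :=
    ⟨e ⟨PrimeSpectrum.comap (algebraMap B T) q, (hcomp q).trans hq⟩, _, ⟨q, rfl⟩, rfl⟩
  haveI : IsJacobsonRing (p.asIdeal.Fiber B) := isJacobsonRing_of_finiteType (A := p.asIdeal.ResidueField)
  obtain ⟨m, hmO, hm⟩ := nonempty_inter_closedPoints hOne hO.isLocallyClosed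
  have hmax : m.asIdeal.IsMaximal := (PrimeSpectrum.isClosed_singleton_iff_isMaximal m).mp hm
  obtain ⟨⟨P, hPp⟩, ⟨Q, hQ⟩, hPm⟩ := hmO
  have hht : Order.height m = (c : ℕ∞) := by
    rw [← PrimeSpectrum.height_eq_orderHeight]
    let E := (MvPolynomial.algebraTensorAlgEquiv R p.asIdeal.ResidueField (σ := Fin c)).toRingEquiv
    rw [← E.height_map m.asIdeal]
    haveI : (m.asIdeal.map E).IsMaximal := Ideal.map_isMaximal_of_equiv E
    obtain ⟨h, d, hh, hd, hsum⟩ := Groth.L07.CIField.exists_height_add (m.asIdeal.map E)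
    rw [ringKrullDim_eq_zero_of_isField ((Ideal.Quotient.maximal_ideal_iff_isField_quotient _).mp ‹_›)] at hd
    have hd' : d = 0 := by exact_mod_cast hd.symm
    rw [hh, show h = c by omega]
  obtain ⟨l, hl, hlen⟩ := Order.exists_series_of_height_eq_coe m hht
  let o := (PrimeSpectrum.preimageOrderIsoFiber R B p).symm
  let l' : LTSeries (PrimeSpectrum B) := l.map (fun z => (o z).1)
    fun _ _ h => o.strictMono h
  have hlast : l'.last = P := by
    rw [LTSeries.last_map, hl, ← hPm]
    exact congrArg Subtype.val ((PrimeSpectrum.preimageOrderIsoFiber R B p).symm_apply_apply ⟨P, hPp⟩)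
  haveI : Q.asIdeal.LiesOver l'.last.asIdeal := ⟨by rw [hlast]; exact congrArg PrimeSpectrum.asIdeal hQ.symm⟩
  obtain ⟨L, hLlen, -, hL⟩ := Ideal.exists_ltSeries_of_hasGoingDown l' Q.asIdeal
  have hover : ∀ i, PrimeSpectrum.comap (algebraMap R T) (L i) = p := fun i => by
    have h1 : PrimeSpectrum.comap (algebraMap B T) (L i) ∈ l'.toList := by
      rw [← hL]
      exact List.mem_map.mpr ⟨L i, RelSeries.mem_toList.mpr ⟨i, rfl⟩, rfl⟩
    obtain ⟨j, hj⟩ := RelSeries.mem_toList.mp h1
    rw [← hcomp, ← hj]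
    exact (o (l j)).2
  let L' : LTSeries ↑(PrimeSpectrum.comap (algebraMap R T) ⁻¹' {p}) :=
    { length := L.length, toFun := fun i => ⟨L i, hover i⟩, step := fun i => L.step i }
  rw [ringKrullDim, ← Order.krullDim_eq_of_orderIso (PrimeSpectrum.preimageOrderIsoFiber R T p)]
  refine le_trans ?_ (Order.LTSeries.length_le_krullDim L')
  rw [show L'.length = c from hLlen.trans ((show l'.length = l.length from rfl).trans hlen)]

/-- Near a Cohen–Macaulay point closed in its fibre, the fibre dimension is constant. -/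
theorem exists_nhd_fibreDim_of_closed {X S : Scheme.{u}} (f : X ⟶ S) [LocallyOfFinitePresentation f] (x : X)
    (hcm : MoreMor.IsCMAt f x) (hcl : IsClosed ({f.asFiber x} : Set ↑(f.fiber (f x)))) :
    ∃ (W : X.Opens) (c : ℕ), x ∈ W ∧ ∀ y ∈ W, FlatMor.fibreDimAt f y = (c : WithBot ℕ∞) := by
  classical
  obtain ⟨c, V, hV, U, hU, hUV, hx, t, hgerm, -, hflat, hiso⟩ :=
    L02.CAlg.QFSlice.exists_slice_isolated f x hcm hcl
  letI : Algebra Γ(S, V) Γ(X, U) := (f.appLE V U hUV).hom.toAlgebra
  haveI : Algebra.FinitePresentation Γ(S, V) Γ(X, U) := f.finitePresentation_appLE hV hU hUV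
  obtain ⟨φ, hφ⟩ : ∃ φ : MvPolynomial (Fin c) Γ(S, V) →ₐ[Γ(S, V)] Γ(X, U), φ = MvPolynomial.aeval t := ⟨_, rfl⟩
  letI : Algebra (MvPolynomial (Fin c) Γ(S, V)) Γ(X, U) := φ.toRingHom.toAlgebra
  haveI : IsScalarTower Γ(S, V) (MvPolynomial (Fin c) Γ(S, V)) Γ(X, U) :=
    IsScalarTower.of_algebraMap_eq fun r => (φ.commutes r).symm
  haveI : Module.Flat (MvPolynomial (Fin c) Γ(S, V)) Γ(X, U) := by subst hφ; exact hflat
  haveI : Algebra.FiniteType (MvPolynomial (Fin c) Γ(S, V)) Γ(X, U) :=
    Algebra.FiniteType.of_restrictScalars_finiteType Γ(S, V) _ _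
  let q := (hU.primeIdealOf ⟨x, hx⟩).asIdeal
  letI : Algebra Γ(X, U) (X.presheaf.stalk x) := (X.presheaf.germ U x hx).hom.toAlgebra
  haveI hloc : IsLocalization.AtPrime (X.presheaf.stalk x) q := hU.isLocalization_stalk ⟨x, hx⟩
  have hX : ∀ i, algebraMap (MvPolynomial (Fin c) Γ(S, V)) Γ(X, U) (MvPolynomial.X i) = t i := fun i => by
    show φ (MvPolynomial.X i) = t i
    rw [hφ, MvPolynomial.aeval_X]
  haveI : Algebra.QuasiFiniteAt (MvPolynomial (Fin c) Γ(S, V)) q :=
    haveI : q.LiesOver (q.under (MvPolynomial (Fin c) Γ(S, V))) := ⟨rfl⟩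
    L02.CAlg.QFSlice.quasiFiniteAt_of_isolated (q.under (MvPolynomial (Fin c) Γ(S, V))) q
    fun q' hq' hq'p hcomp => hiso q' hq' (Ideal.span_le.mpr fun a ha => by
        obtain ⟨i, rfl⟩ := List.mem_ofFn.mp ha
        have h1 : MvPolynomial.X i ∈ q.under (MvPolynomial (Fin c) Γ(S, V)) := by
          show algebraMap _ Γ(X, U) (MvPolynomial.X i) ∈ q
          rw [hX]
          exact (IsLocalization.AtPrime.to_map_mem_maximal_iff (X.presheaf.stalk x) q _).mp (hgerm i)
        rw [hq'p.over] at h1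
        rw [SetLike.mem_coe, ← hX]
        exact h1)
      (by rw [← Ideal.under_under (A := Γ(S, V)) (B := MvPolynomial (Fin c) Γ(S, V)) q', ← hq'p.over,
        Ideal.under_under])
      hcomp
  obtain ⟨r, hr, hQF⟩ := Groth.L07.FibreDim.exists_away_quasiFinite (S := MvPolynomial (Fin c) Γ(S, V)) q
  have key : ∀ g : Γ(X, U), X.basicOpen g ≤ X.basicOpen r → ∀ y ∈ X.basicOpen g,
      topologicalKrullDim ((X.basicOpen g : Set X) ∩ f ⁻¹' {f y} : Set X) = (c : WithBot ℕ∞) := by
    intro g hgr y hy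
    have hD : X.basicOpen g ≤ f ⁻¹ᵁ V := (X.basicOpen_le g).trans hUV
    let T := Γ(X, X.basicOpen g)
    let ρ : Γ(X, U) →+* T := (X.presheaf.map (homOfLE (X.basicOpen_le g)).op).hom
    letI : Algebra Γ(X, U) T := ρ.toAlgebra
    haveI : IsLocalization.Away g T := hU.isLocalization_basicOpen g
    letI : Algebra (MvPolynomial (Fin c) Γ(S, V)) T := (ρ.comp φ.toRingHom).toAlgebra
    letI : Algebra Γ(S, V) T := (f.appLE V (X.basicOpen g) hD).hom.toAlgebra
    haveI : IsScalarTower (MvPolynomial (Fin c) Γ(S, V)) Γ(X, U) T := IsScalarTower.of_algebraMap_eq fun _ => rfl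
    have hres : ∀ a, f.appLE V (X.basicOpen g) hD a = ρ (f.appLE V U hUV a) := fun a => by
      show _ = (f.appLE V U hUV ≫ X.presheaf.map _) a
      rw [Scheme.Hom.appLE_map]
    haveI : IsScalarTower Γ(S, V) (MvPolynomial (Fin c) Γ(S, V)) T := IsScalarTower.of_algebraMap_eq fun a =>
      (hres a).trans (congrArg ρ (φ.commutes a).symm)
    haveI : Module.Flat Γ(X, U) T := IsLocalization.flat T (Submonoid.powers g)
    haveI : Module.Flat (MvPolynomial (Fin c) Γ(S, V)) T := Module.Flat.trans _ Γ(X, U) T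
    haveI : Algebra.FinitePresentation Γ(S, V) T := f.finitePresentation_appLE hV (hU.basicOpen g) hD
    haveI : Algebra.FiniteType Γ(S, V) (MvPolynomial (Fin c) Γ(S, V)) := inferInstance
    haveI : Algebra.FinitePresentation (MvPolynomial (Fin c) Γ(S, V)) T :=
      Algebra.FinitePresentation.of_restrict_scalars_finitePresentation Γ(S, V) _ T
    haveI : Algebra.QuasiFinite (MvPolynomial (Fin c) Γ(S, V)) T := by
      have hu : IsUnit (algebraMap Γ(X, U) T r) := by
          have h1 := X.toRingedSpace.isUnit_res_basicOpen r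
          have h2 : ρ r = X.presheaf.map (homOfLE hgr).op (X.presheaf.map (homOfLE (X.basicOpen_le r)).op r) := by
            rw [← CommRingCat.comp_apply, ← Functor.map_comp]
            rfl
          show IsUnit (ρ r)
          rw [h2]
          exact h1.map (X.presheaf.map (homOfLE hgr).op).hom
      let l : Localization.Away r →ₐ[MvPolynomial (Fin c) Γ(S, V)] T :=
        IsLocalization.liftAlgHom (M := Submonoid.powers r)
          (f := IsScalarTower.toAlgHom (MvPolynomial (Fin c) Γ(S, V)) Γ(X, U) T) fun a => by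
          obtain ⟨_, n, rfl⟩ := a
          rw [IsScalarTower.coe_toAlgHom', map_pow]
          exact hu.pow n
      refine Algebra.QuasiFinite.of_forall_exists_mul_mem_range l fun z => ?_
      obtain ⟨a, s, rfl⟩ := IsLocalization.exists_mk'_eq (Submonoid.powers g) z
      exact ⟨algebraMap _ _ (s : Γ(X, U)), by simpa [l] using IsLocalization.map_units T s,
        algebraMap _ _ a, by simp [l]⟩
    rw [Groth.L07.FibreDim.dim_affine_fibre f hV (hU.basicOpen g) hD (y := f y) (hD hy)]
    refine ringKrullDim_fibre_eq _ (PrimeSpectrum.nontrivial (PrimeSpectrum.preimageEquivFiber Γ(S, V) T _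
      ⟨(hU.basicOpen g).primeIdealOf ⟨y, hy⟩, ?_⟩))
    exact IsAffineOpen.comap_primeIdealOf_appLE V hV (X.basicOpen g) (hU.basicOpen g) hD hy
  refine ⟨X.basicOpen r, c, ?_, fun y hy => ?_⟩
  · rw [Scheme.mem_basicOpen X r x hx]
    exact IsLocalization.map_units (X.presheaf.stalk x) (⟨r, hr⟩ : q.primeCompl)
  refine le_antisymm ((Groth.L07.FibreDim.fibreDimAt_le_iff f y _).mpr
    ⟨X.basicOpen r, hy, (key r le_rfl y hy).le⟩) (not_lt.mp fun hlt => ?_)
  obtain ⟨U', hyU', hU'⟩ := (Groth.L07.FibreDim.fibreDimAt_le_iff f y _).mp le_rfl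
  obtain ⟨g, hgle, hyg⟩ := hU.exists_basicOpen_le (V := U' ⊓ X.basicOpen r) ⟨y, hyU', hy⟩ (X.basicOpen_le r hy)
  exact absurd (((key g (hgle.trans inf_le_right) y hyg).symm.le.trans (Groth.L22.SchemeDim.topologicalKrullDim_mono
    (Set.inter_subset_inter_left _ fun z hz => (hgle hz).1))).trans hU') hlt.not_ge

/-- The fibre dimension of a flat morphism with Cohen–Macaulay fibres is locally constant. -/
theorem isLocallyConstant_fibreDimAt {X S : Scheme.{u}} (f : X ⟶ S)
    [LocallyOfFinitePresentation f] (hcm : ∀ x : X, MoreMor.IsCMAt f x) :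
    IsLocallyConstant (fun x : ↑X => FlatMor.fibreDimAt f x) := by
  refine IsLocallyConstant.iff_exists_open _ |>.mpr fun x => ?_
  let F := f.fiber (f x)
  haveI : LocallyOfFiniteType (f.fiberToSpecResidueField (f x)) :=
    inferInstanceAs (LocallyOfFiniteType (Limits.pullback.snd _ _))
  haveI : JacobsonSpace F := LocallyOfFiniteType.jacobsonSpace (f.fiberToSpecResidueField (f x))
  obtain ⟨z, hzx, hz⟩ := nonempty_inter_closedPoints (X := F) (Z := closure {f.asFiber x})
    ⟨_, subset_closure rfl⟩ isClosed_closure.isLocallyClosed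
  obtain ⟨W, c, hzW, hW⟩ := exists_nhd_fibreDim_of_closed f _ (hcm _) (isClosed_asFiber f (f x) z _ rfl hz)
  have hxW : x ∈ W := by
    have h : f.asFiber x ⤳ z := specializes_iff_mem_closure.mpr hzx
    have := h.map (f.fiberι (f x)).continuous
    rw [f.fiberι_asFiber] at this
    exact this.mem_open W.2 hzW
  exact ⟨W, W.2, hxW, fun y hy => (hW y hy).trans (hW x hxW).symm⟩

end L02.CMMor
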