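import Groth.Agent.L07.FibreRegularLocal
import Groth.Agent.L01.ArtinianFlatRegular
import Groth.Agent.L04.CMBasic
import Groth.Prelude.Def_EGA4b
import Groth.Prelude.Def_CAlg
import Mathlib.RingTheory.Regular.Flat
import Mathlib.RingTheory.LocalRing.Module
import Mathlib.RingTheory.Support
import Mathlib.RingTheory.Flat.FaithfullyFlat.Basic
import Mathlib.RingTheory.Ideal.AssociatedPrime.Localization

/-!
Depth, dimension and the Cohen–Macaulay property of `N ⊗[A] M` for `N` flat over `A`.
-/

set_option autoImplicit false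
set_option linter.style.haveILetI false
set_option maxSynthPendingDepth 3
universe u

open IsLocalRing TensorProduct RingTheory.Sequence
open scoped Pointwise

namespace L02.CMMor

variable {A B : Type u} [CommRing A] [CommRing B] [Algebra A B]
variable (N : Type u) [AddCommGroup N] [Module B N] [Module A N] [IsScalarTower A B N]
variable (X : Type u) [AddCommGroup X] [Module A X]

/-- Reduction modulo an ideal of `B` commutes with tensoring over `A`. -/
theorem exists_quotTensor (J : Ideal B) :
    Nonempty (((N ⊗[A] X) ⧸ (J • (⊤ : Submodule B (N ⊗[A] X)))) ≃ₗ[B] (N ⧸ (J • (⊤ : Submodule B N))) ⊗[A] X) :=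
  ⟨(quotTensorEquivQuotSMul (N ⊗[A] X) J).symm ≪≫ₗ (AlgebraTensorModule.assoc A B B (B ⧸ J) N X).symm ≪≫ₗ
    AlgebraTensorModule.congr (quotTensorEquivQuotSMul N J) (LinearEquiv.refl A X)⟩

/-- Reduction modulo an ideal of `A` happens in the second factor. -/
theorem exists_quotTensor_base (a : Ideal A) :
    Nonempty (((N ⊗[A] X) ⧸ (a.map (algebraMap A B) • (⊤ : Submodule B (N ⊗[A] X)))) ≃ₗ[B]
      N ⊗[A] (X ⧸ (a • (⊤ : Submodule A X)))) := by
  let Y : Submodule A X := a • ⊤
  let g : N ⊗[A] X →ₗ[B] N ⊗[A] (X ⧸ Y) := AlgebraTensorModule.lTensor B N Y.mkQ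
  have hg : Function.Surjective g := LinearMap.lTensor_surjective N Y.mkQ_surjective
  have hle : a.map (algebraMap A B) ≤ Submodule.colon (LinearMap.ker g) (Set.univ : Set (N ⊗[A] X)) := by
    refine Ideal.map_le_iff_le_comap.mpr fun r hr => ?_
    rw [Ideal.mem_comap, Submodule.mem_colon]
    intro z hz'
    clear hz'
    rw [LinearMap.mem_ker, algebraMap_smul]
    induction z using TensorProduct.induction_on with
    | zero => simp
    | tmul n x =>
      rw [← TensorProduct.tmul_smul]
      show n ⊗ₜ[A] Y.mkQ (r • x) = 0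
      rw [Submodule.mkQ_apply, (Submodule.Quotient.mk_eq_zero _).mpr (Submodule.smul_mem_smul hr Submodule.mem_top),
        TensorProduct.tmul_zero]
    | add p q hp hq => rw [smul_add, map_add, hp, hq, add_zero]
  have hker : LinearMap.ker g = a.map (algebraMap A B) • (⊤ : Submodule B (N ⊗[A] X)) := by
    refine le_antisymm (fun z hz => ?_) (Submodule.smul_le.mpr fun r hr z _ =>
      Submodule.mem_colon.mp (hle hr) z trivial)
    obtain ⟨w, rfl⟩ := (lTensor_exact N (LinearMap.exact_subtype_mkQ Y) Y.mkQ_surjective z).mp hz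
    clear hz
    induction w using TensorProduct.induction_on with
    | zero => simp
    | add p q hp hq => rw [map_add]; exact add_mem hp hq
    | tmul n y =>
      rw [LinearMap.lTensor_tmul]
      refine Submodule.smul_induction_on (p := fun v => n ⊗ₜ[A] v ∈ a.map (algebraMap A B) • (⊤ : Submodule B (N ⊗[A] X)))
        y.2 (fun r hr v _ => ?_) (fun u v hu hv => by rw [TensorProduct.tmul_add]; exact add_mem hu hv)
      rw [TensorProduct.tmul_smul, ← algebraMap_smul B r]
      exact Submodule.smul_mem_smul (Ideal.mem_map_of_mem _ hr) trivial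
  exact ⟨Submodule.quotEquivOfEq _ _ hker.symm ≪≫ₗ g.quotKerEquivOfSurjective hg⟩

omit [Module B N] [IsScalarTower A B N] in
theorem finite_tensor [Module B N] [IsScalarTower A B N] [Module.Finite B N] [Module.Finite A X] :
    Module.Finite B (N ⊗[A] X) :=
  Module.Finite.equiv (AlgebraTensorModule.cancelBaseChange A B B N X)

section Local

variable [IsLocalRing A] [IsNoetherianRing A] [IsLocalRing B] [IsNoetherianRing B]
  [IsLocalHom (algebraMap A B)]

/-- A sequence regular on the closed fibre is regular on `N ⊗ X`. -/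
theorem isWeaklyRegular_tensor_of_fibre : ∀ (l : List B) (N : Type u) [AddCommGroup N] [Module B N] [Module A N]
    [IsScalarTower A B N] [Module.Finite B N] [Module.Flat A N],
    IsWeaklyRegular (EGA4.FibMod A B N) l → ∀ (X : Type u) [AddCommGroup X] [Module A X] [Module.Finite A X],
      IsWeaklyRegular (N ⊗[A] X) l := by
  intro l
  induction l with
  | nil => intros; exact IsWeaklyRegular.nil _ _
  | cons g t ih =>
    intro N _ _ _ _ _ _ hreg X _ _ _
    obtain ⟨hg, ht⟩ := (isWeaklyRegular_cons_iff _ g t).mp hreg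
    have hres := Groth.L07.FibreRegularLocal.regular_tensor_residue N g hg
    obtain ⟨h1, h2⟩ := Groth.L07.FibreRegularLocal.isSMulRegular_and_flat N hres
    haveI := h2
    obtain ⟨e⟩ := Groth.L07.FibreRegularLocal.exists_quotSwap N ((maximalIdeal A).map (algebraMap A B)) g
    obtain ⟨e'⟩ := Groth.L01.ArtinianFlatRegular.nonempty_quotSMulTop_tensor (A := A) (M := N) g X
    exact (isWeaklyRegular_cons_iff _ g t).mpr ⟨Groth.L07.FibreRegularLocal.regular_of_finite N hres X,
      (e'.isWeaklyRegular_congr t).mpr (ih (QuotSMulTop g N) ((e.isWeaklyRegular_congr t).mp ht) X)⟩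

variable (M : Type u) [AddCommGroup M] [Module A M] [Module.Finite A M]
variable [Module.Finite B N] [Module.Flat A N]

omit [IsLocalHom (algebraMap A B)] [IsNoetherianRing A] [IsNoetherianRing B] [Module.Flat A N] [Module.Finite A M] in
theorem nontrivial_fibMod [IsLocalHom (algebraMap A B)] [Nontrivial N] : Nontrivial (EGA4.FibMod A B N) := by
  refine Submodule.Quotient.nontrivial_iff.mpr fun h => ?_
  have := Submodule.eq_bot_of_le_smul_of_le_jacobson_bot (maximalIdeal B) (⊤ : Submodule B N) Module.Finite.fg_top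
    (h.ge.trans (Submodule.smul_mono_left (IsLocalRing.map_maximalIdeal_le (algebraMap A B))))
    (IsLocalRing.maximalIdeal_le_jacobson _)
  exact top_ne_bot this

/-- `depth (N ⊗ M) = depth M + depth N̄`. -/
theorem depth_tensor : LocCoh.depth B (N ⊗[A] M) = LocCoh.depth A M + LocCoh.depth B (EGA4.FibMod A B N) := by
  haveI := finite_tensor (A := A) (B := B) N M
  rcases subsingleton_or_nontrivial N with hN | hN
  · haveI : Subsingleton (EGA4.FibMod A B N) := (Submodule.mkQ_surjective _).subsingleton
    haveI : Subsingleton (N ⊗[A] M) := inferInstance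
    simp [LocCoh.depth, LocCoh.idealDepth, Subsingleton.elim (_ : Submodule B (EGA4.FibMod A B N)) ⊤,
      Subsingleton.elim (_ : Submodule B (N ⊗[A] M)) ⊤]
  rcases subsingleton_or_nontrivial M with hM | hM
  · haveI : Subsingleton (N ⊗[A] M) := inferInstance
    simp [LocCoh.depth, LocCoh.idealDepth, Subsingleton.elim (_ : Submodule A M) ⊤,
      Subsingleton.elim (_ : Submodule B (N ⊗[A] M)) ⊤]
  haveI := nontrivial_fibMod (A := A) (B := B) N
  obtain ⟨rs, -, hrs, hrsI, z, hz0, hz⟩ := Groth.L04.exists_maximal_regular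
    (Groth.L04.smul_top_ne_top_of_nontrivial (R := A) (M := M) (maximalIdeal.isMaximal A).ne_top)
    (IsWeaklyRegular.nil A M) (by simp)
  obtain ⟨ss, -, hss, hssI, w, hw0, hw⟩ := Groth.L04.exists_maximal_regular
    (Groth.L04.smul_top_ne_top_of_nontrivial (R := B) (M := EGA4.FibMod A B N) (maximalIdeal.isMaximal B).ne_top)
    (IsWeaklyRegular.nil B (EGA4.FibMod A B N)) (by simp)
  have hdM : LocCoh.depth A M = rs.length := Groth.L04.idealDepth_eq_length hrs hrsI hz0 hz
  have hdN : LocCoh.depth B (EGA4.FibMod A B N) = ss.length := Groth.L04.idealDepth_eq_length hss hssI hw0 hw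
  obtain ⟨-, hflat⟩ := Groth.L07.FibreRegularLocal.isWeaklyRegular_and_flat ss N hss
  have hflat' := hflat ss.length le_rfl
  rw [List.take_length] at hflat'
  let N' := N ⧸ (Ideal.ofList ss • (⊤ : Submodule B N))
  haveI : Module.Flat A N' := hflat'
  obtain ⟨e₁⟩ := exists_quotTensor (A := A) N M (Ideal.ofList ss)
  let a := Ideal.ofList rs
  obtain ⟨e₂⟩ := exists_quotTensor_base (B := B) N' M a
  have hB : IsWeaklyRegular (N ⊗[A] M) (ss ++ rs.map (algebraMap A B)) := by
    rw [isWeaklyRegular_append_iff]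
    refine ⟨isWeaklyRegular_tensor_of_fibre ss N hss M, (e₁.isWeaklyRegular_congr _).mpr ?_⟩
    exact (isWeaklyRegular_map_algebraMap_iff B (N' ⊗[A] M) rs).mpr (hrs.isWeaklyRegular_lTensor)
  have hI : ∀ r ∈ ss ++ rs.map (algebraMap A B), r ∈ maximalIdeal B := by
    intro r hr
    rcases List.mem_append.mp hr with h | h
    · exact hssI r h
    · obtain ⟨x, hx, rfl⟩ := List.mem_map.mp h
      exact IsLocalRing.map_maximalIdeal_le (algebraMap A B) (Ideal.mem_map_of_mem _ (hrsI x hx))
  -- a socle element of the quotient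
  let M' := M ⧸ (a • (⊤ : Submodule A M))
  let ι₀ : (A ⧸ maximalIdeal A) →ₗ[A] M' := Submodule.liftQ _ (LinearMap.toSpanSingleton A M' z) fun r hr => hz r hr
  have hι : Function.Injective ι₀ := by
    refine (injective_iff_map_eq_zero _).mpr fun q hq => ?_
    obtain ⟨r, rfl⟩ := Submodule.mkQ_surjective _ q
    refine (Submodule.Quotient.mk_eq_zero _).mpr ?_
    by_contra hr
    rw [IsLocalRing.notMem_maximalIdeal] at hr
    have hq' : r • z = 0 := hq
    exact hz0 (by rw [← one_smul A z, ← hr.val_inv_mul, mul_smul, hq', smul_zero])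
  let ι : N' ⊗[A] (A ⧸ maximalIdeal A) →ₗ[B] N' ⊗[A] M' := AlgebraTensorModule.lTensor B N' ι₀
  have hι' : Function.Injective ι := Module.Flat.lTensor_preserves_injective_linearMap (M := N') ι₀ hι
  obtain ⟨e₃⟩ := exists_quotTensor_base (B := B) N' A (maximalIdeal A)
  have hmA : (maximalIdeal A • (⊤ : Submodule A A)) = maximalIdeal A := by rw [smul_eq_mul, Ideal.mul_top]
  let e₄ : (N' ⧸ ((maximalIdeal A).map (algebraMap A B) • (⊤ : Submodule B N'))) ≃ₗ[B] N' ⊗[A] (A ⧸ maximalIdeal A) :=
    Submodule.Quotient.equiv _ _ (AlgebraTensorModule.rid A B N').symm (by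
      rw [Submodule.map_smul'', Submodule.map_top, LinearEquiv.range]) ≪≫ₗ e₃ ≪≫ₗ
      AlgebraTensorModule.congr (LinearEquiv.refl B N') (Submodule.quotEquivOfEq _ _ hmA)
  -- transport `w`
  let J := Ideal.ofList ss
  let mB := (maximalIdeal A).map (algebraMap A B)
  let e₅ : (EGA4.FibMod A B N ⧸ (J • (⊤ : Submodule B (EGA4.FibMod A B N)))) ≃ₗ[B]
      (N' ⧸ (mB • (⊤ : Submodule B N'))) :=
    (quotTensorEquivQuotSMul _ J).symm ≪≫ₗ
      TensorProduct.congr (LinearEquiv.refl B (B ⧸ J)) (quotTensorEquivQuotSMul N mB).symm ≪≫ₗ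
      TensorProduct.leftComm B (B ⧸ J) (B ⧸ mB) N ≪≫ₗ
      TensorProduct.congr (LinearEquiv.refl B (B ⧸ mB)) (quotTensorEquivQuotSMul N J) ≪≫ₗ
      quotTensorEquivQuotSMul N' mB
  let y : N' ⊗[A] M' := ι (e₄ (e₅ w))
  have hy0 : y ≠ 0 := fun h => hw0 (e₅.injective (e₄.injective (hι' (by rw [map_zero, map_zero, map_zero]; exact h))))
  have hy : ∀ b ∈ maximalIdeal B, b • y = 0 := fun b hb => by
    show b • ι (e₄ (e₅ w)) = 0
    rw [← map_smul, ← map_smul, ← map_smul, hw b hb, map_zero, map_zero, map_zero]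
  -- the quotient by the whole sequence
  let e₆ : (((N ⊗[A] M)) ⧸ (Ideal.ofList (ss ++ rs.map (algebraMap A B)) • (⊤ : Submodule B (N ⊗[A] M)))) ≃ₗ[B]
      N' ⊗[A] M' :=
    (quotTensorEquivQuotSMul _ _).symm ≪≫ₗ
      TensorProduct.congr (Submodule.quotEquivOfEq _ _ (by rw [Ideal.ofList_append, ← Ideal.map_ofList]))
        (LinearEquiv.refl B _) ≪≫ₗ quotTensorEquivQuotSMul _ (Ideal.ofList ss ⊔ a.map (algebraMap A B)) ≪≫ₗ
      (Submodule.quotEquivOfEq _ _ (Submodule.sup_smul _ _ _)) ≪≫ₗ
      (Submodule.quotientQuotientEquivQuotientSup _ _).symm ≪≫ₗ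
      Submodule.Quotient.equiv _ (a.map (algebraMap A B) • (⊤ : Submodule B (N' ⊗[A] M))) e₁ (by
        rw [Submodule.map_smul'', Submodule.map_smul'', Submodule.map_top, Submodule.range_mkQ, Submodule.map_top,
          LinearEquiv.range]) ≪≫ₗ e₂
  rw [hdM, hdN, LocCoh.depth, Groth.L04.idealDepth_eq_length hB hI (z := e₆.symm y)
    (fun h => hy0 (e₆.symm.injective (h.trans (map_zero _).symm)))
    (fun b hb => by rw [← map_smul, hy b hb, map_zero]), List.length_append, List.length_map, Nat.cast_add, add_comm]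

omit [IsLocalRing A] [IsNoetherianRing A] [IsLocalRing B] [IsLocalHom (algebraMap A B)] [Module.Flat A N] in
theorem support_tensor :
    Module.support B (N ⊗[A] M) = Module.support B N ∩ PrimeSpectrum.comap (algebraMap A B) ⁻¹' Module.support A M := by
  haveI := finite_tensor (A := A) (B := B) N M
  ext P
  rw [Set.mem_inter_iff, Set.mem_preimage, Module.mem_support_iff_nontrivial_residueField_tensorProduct,
    Module.mem_support_iff_nontrivial_residueField_tensorProduct,
    Module.mem_support_iff_nontrivial_residueField_tensorProduct]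
  let K := P.asIdeal.ResidueField
  let p := PrimeSpectrum.comap (algebraMap A B) P
  haveI : P.asIdeal.LiesOver p.asIdeal := ⟨rfl⟩
  let k := p.asIdeal.ResidueField
  letI : Algebra k K := (Ideal.ResidueField.map p.asIdeal P.asIdeal (algebraMap A B) rfl).toAlgebra
  haveI : IsScalarTower A k K := IsScalarTower.of_algebraMap_eq fun r => by
    show algebraMap A K r = Ideal.ResidueField.map p.asIdeal P.asIdeal (algebraMap A B) rfl (algebraMap A k r)
    exact ((Ideal.ResidueField.map_algebraMap (hf := (rfl : p.asIdeal = P.asIdeal.comap (algebraMap A B))) ..).trans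
      (IsScalarTower.algebraMap_apply A B K r).symm).symm
  let V := K ⊗[B] N
  let b := Module.Free.chooseBasis K V
  let e : K ⊗[B] (N ⊗[A] M) ≃ₗ[K] (Module.Free.ChooseBasisIndex K V →₀ K ⊗[k] (k ⊗[A] M)) :=
    (AlgebraTensorModule.assoc A B K K N M).symm ≪≫ₗ AlgebraTensorModule.congr b.repr (LinearEquiv.refl A M) ≪≫ₗ
      TensorProduct.finsuppLeft A K K M _ ≪≫ₗ
      Finsupp.mapRange.linearEquiv (AlgebraTensorModule.cancelBaseChange A k K K M).symm
  rw [e.toEquiv.nontrivial_congr, b.repr.toEquiv.nontrivial_congr,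
    ← not_subsingleton_iff_nontrivial, ← not_subsingleton_iff_nontrivial, ← not_subsingleton_iff_nontrivial]
  constructor
  · intro h
    refine ⟨fun h' => h ?_, fun h' => h ?_⟩
    · haveI : IsEmpty (Module.Free.ChooseBasisIndex K V) := ⟨fun i => by
        have := congrArg (fun v => v i) (Subsingleton.elim (Finsupp.single i (1 : K)) 0)
        simp at this⟩
      infer_instance
    · haveI : Subsingleton (k ⊗[A] M) := h'
      infer_instance
  · rintro ⟨h₁, h₂⟩ h
    apply h₂
    obtain ⟨i⟩ : Nonempty (Module.Free.ChooseBasisIndex K V) := by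
      by_contra hne
      rw [not_nonempty_iff] at hne
      exact h₁ inferInstance
    refine ⟨fun x y => ?_⟩
    have := congrArg (fun v => v i) (Subsingleton.elim (Finsupp.single i ((1 : K) ⊗ₜ[k] x)) (Finsupp.single i ((1 : K) ⊗ₜ[k] y)))
    simp only [Finsupp.single_eq_same] at this
    exact Module.FaithfullyFlat.tensorProduct_mk_injective (A := k) (B := K) (k ⊗[A] M) this

omit [IsLocalRing A] [IsNoetherianRing A] [IsLocalRing B] [IsLocalHom (algebraMap A B)] [Module.Finite A M] in
/-- Going down along the support of a flat module. -/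
theorem exists_mem_support_le (P : PrimeSpectrum B) (hP : P ∈ Module.support B N) (p : PrimeSpectrum A)
    (hp : p ≤ PrimeSpectrum.comap (algebraMap A B) P) :
    ∃ Q ∈ Module.support B N, Q ≤ P ∧ PrimeSpectrum.comap (algebraMap A B) Q = p := by
  let J := p.asIdeal.map (algebraMap A B)
  let N₁ := N ⧸ (J • (⊤ : Submodule B N))
  have hP₁ : P ∈ Module.support B N₁ := by
    rw [Module.support_quotient]
    exact ⟨hP, Ideal.map_le_iff_le_comap.mpr hp⟩
  rw [Module.support_eq_zeroLocus] at hP₁
  obtain ⟨Q, hQ, hQP⟩ := Ideal.exists_minimalPrimes_le (I := Module.annihilator B N₁) (J := P.asIdeal) hP₁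
  have hQprime : Q.IsPrime := hQ.1.1
  have hJQ : J ≤ Q := le_trans (fun x hx => Module.mem_annihilator.mpr fun v => by
    obtain ⟨v, rfl⟩ := Submodule.mkQ_surjective _ v
    rw [← map_smul, Submodule.mkQ_apply, Submodule.Quotient.mk_eq_zero]
    exact Submodule.smul_mem_smul hx trivial) hQ.1.2
  refine ⟨⟨Q, hQprime⟩, ?_, hQP, ?_⟩
  · have : (⟨Q, hQprime⟩ : PrimeSpectrum B) ∈ Module.support B N₁ := by
      rw [Module.support_eq_zeroLocus]; exact hQ.1.2
    exact Module.support_subset_of_surjective _ (Submodule.mkQ_surjective _) this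
  · refine PrimeSpectrum.ext (le_antisymm (fun r hr => ?_) (Ideal.map_le_iff_le_comap.mp hJQ))
    by_contra hrp
    obtain ⟨-, v, hv⟩ := Module.associatedPrimes.minimalPrimes_annihilator_subset_associatedPrimes B N₁ hQ
    obtain ⟨e⟩ := exists_quotTensor_base (B := B) N A p.asIdeal
    let e' : N₁ ≃ₗ[B] N ⊗[A] (A ⧸ p.asIdeal) :=
      Submodule.Quotient.equiv _ _ (AlgebraTensorModule.rid A B N).symm (by
        rw [Submodule.map_smul'', Submodule.map_top, LinearEquiv.range]) ≪≫ₗ e ≪≫ₗ
        AlgebraTensorModule.congr (LinearEquiv.refl B N)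
          (Submodule.quotEquivOfEq _ _ (by rw [smul_eq_mul, Ideal.mul_top]))
    have hinj : Function.Injective (LinearMap.lsmul A (A ⧸ p.asIdeal) r) := by
      refine (injective_iff_map_eq_zero _).mpr fun q hq => ?_
      obtain ⟨q, rfl⟩ := Ideal.Quotient.mk_surjective q
      refine Ideal.Quotient.eq_zero_iff_mem.mpr ((p.isPrime.mem_or_mem (Ideal.Quotient.eq_zero_iff_mem.mp ?_)).resolve_left hrp)
      exact hq
    have hreg : ∀ v : N₁, algebraMap A B r • v = 0 → v = 0 := fun v hv => by
      apply e'.injective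
      refine (map_zero e').symm ▸ Module.Flat.lTensor_preserves_injective_linearMap (M := N) _ hinj ?_
      rw [map_zero]
      have h1 : ∀ t : N ⊗[A] (A ⧸ p.asIdeal), (LinearMap.lsmul A (A ⧸ p.asIdeal) r).lTensor N t = algebraMap A B r • t := fun t => by
        induction t using TensorProduct.induction_on with
        | zero => simp
        | tmul n x => rw [LinearMap.lTensor_tmul, LinearMap.lsmul_apply, TensorProduct.tmul_smul, algebraMap_smul]
        | add x y hx hy => rw [map_add, hx, hy, smul_add]
      rw [h1, ← map_smul, hv, map_zero]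
    have hmem : algebraMap A B r ∈ (Submodule.colon (⊥ : Submodule B N₁) {v}).radical := hv ▸ hr
    obtain ⟨n, hn⟩ := hmem
    rw [Submodule.mem_colon_singleton, Submodule.mem_bot] at hn
    have hv0 : v = 0 := by
      clear hv
      induction n with
      | zero => simpa using hn
      | succ n ih =>
        apply ih
        apply hreg
        rw [smul_smul, ← pow_succ']
        exact hn
    apply hQprime.ne_top
    rw [hv, hv0]
    rw [Ideal.eq_top_iff_one]
    exact Ideal.le_radical (by rw [Submodule.mem_colon_singleton, smul_zero]; exact zero_mem _)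

/-- `dim (N ⊗ M) = dim M + dim N̄`. -/
theorem supportDim_tensor [Nontrivial M] [Nontrivial N] :
    Module.supportDim B (N ⊗[A] M) = Module.supportDim A M + Module.supportDim B (EGA4.FibMod A B N) := by
  classical
  haveI := finite_tensor (A := A) (B := B) N M
  haveI := nontrivial_fibMod (A := A) (B := B) N
  let aM := Module.annihilator A M
  let aN := Module.annihilator B N
  let mB := (maximalIdeal A).map (algebraMap A B)
  have haM : aM ≤ maximalIdeal A := IsLocalRing.le_maximalIdeal (by
    rw [Ne, Module.annihilator_eq_top_iff]; exact not_subsingleton M)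
  refine le_antisymm ?_ ?_
  · -- upper bound
    let I := aN ⊔ aM.map (algebraMap A B)
    have hsupp : Module.support B (N ⊗[A] M) = Module.support B (B ⧸ I) := by
      rw [support_tensor, Module.support_eq_zeroLocus, Module.support_eq_zeroLocus, Module.support_eq_zeroLocus,
        Ideal.annihilator_quotient, PrimeSpectrum.preimage_comap_zeroLocus, ← PrimeSpectrum.zeroLocus_span (_ '' _),
        PrimeSpectrum.zeroLocus_sup]
      rfl
    have hI : I ≤ maximalIdeal B := sup_le (IsLocalRing.le_maximalIdeal (by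
        rw [Ne, Module.annihilator_eq_top_iff]; exact not_subsingleton N))
      ((Ideal.map_mono haM).trans (IsLocalRing.map_maximalIdeal_le _))
    have h1 : Module.supportDim B (N ⊗[A] M) = ringKrullDim (B ⧸ I) := by
      rw [← Module.supportDim_quotient_eq_ringKrullDim, Module.supportDim, Module.supportDim, hsupp]
    have h2 : Module.supportDim B (EGA4.FibMod A B N) = ringKrullDim (B ⧸ (aN ⊔ mB)) := by
      rw [← Module.supportDim_quotient_eq_ringKrullDim, Module.supportDim, Module.supportDim, Module.support_quotient,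
        Module.support_eq_zeroLocus (M := B ⧸ (aN ⊔ mB)), Ideal.annihilator_quotient, PrimeSpectrum.zeroLocus_sup,
        Module.support_eq_zeroLocus]
    rw [h1, h2, Module.supportDim_eq_ringKrullDim_quotient_annihilator]
    let C := B ⧸ I
    let A' := A ⧸ aM
    letI : Algebra A' C := (Ideal.quotientMap I (algebraMap A B)
      (Ideal.map_le_iff_le_comap.mp le_sup_right)).toAlgebra
    haveI : Nontrivial C := Ideal.Quotient.nontrivial_iff.mpr (ne_top_of_le_ne_top (maximalIdeal.isMaximal B).ne_top hI)
    haveI : Nontrivial A' := Ideal.Quotient.nontrivial_iff.mpr (ne_top_of_le_ne_top (maximalIdeal.isMaximal A).ne_top haM)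
    haveI : IsLocalRing C := IsLocalRing.of_surjective' _ Ideal.Quotient.mk_surjective
    haveI : IsLocalRing A' := IsLocalRing.of_surjective' _ Ideal.Quotient.mk_surjective
    haveI : IsLocalHom (Ideal.Quotient.mk I) := IsLocalHom.of_surjective _ Ideal.Quotient.mk_surjective
    haveI : IsLocalHom (algebraMap A' C) := ⟨fun x hx => by
      obtain ⟨x, rfl⟩ := Ideal.Quotient.mk_surjective x
      exact (IsUnit.of_map (algebraMap A B) _ (IsUnit.of_map (Ideal.Quotient.mk I) _ hx)).map _⟩
    haveI : (maximalIdeal C).LiesOver (maximalIdeal A') :=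
      ⟨(IsLocalRing.maximalIdeal_comap (algebraMap A' C)).symm⟩
    let K := (maximalIdeal A').map (algebraMap A' C)
    have hK : K ≠ ⊤ := ne_top_of_le_ne_top (maximalIdeal.isMaximal C).ne_top (IsLocalRing.map_maximalIdeal_le _)
    haveI : Nontrivial (C ⧸ K) := Ideal.Quotient.nontrivial_iff.mpr hK
    haveI : IsLocalRing (C ⧸ K) := IsLocalRing.of_surjective' _ Ideal.Quotient.mk_surjective
    have hmaxK : (maximalIdeal C).map (Ideal.Quotient.mk K) = maximalIdeal (C ⧸ K) :=
      IsLocalRing.map_maximalIdeal_of_surjective _ Ideal.Quotient.mk_surjective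
    have h3 := Ideal.height_le_height_add_of_liesOver (maximalIdeal A') (maximalIdeal C)
    rw [hmaxK] at h3
    have hKI : K = mB.map (Ideal.Quotient.mk I) := by
      show (maximalIdeal A').map (algebraMap A' C) = _
      rw [← IsLocalRing.map_maximalIdeal_of_surjective (Ideal.Quotient.mk aM) Ideal.Quotient.mk_surjective,
        Ideal.map_map, Ideal.map_map]
      rfl
    have he : ringKrullDim (C ⧸ K) = ringKrullDim (B ⧸ (aN ⊔ mB)) :=
      ringKrullDim_eq_of_ringEquiv ((Ideal.quotEquivOfEq hKI).trans ((DoubleQuot.quotQuotEquivQuotSup I mB).trans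
        (Ideal.quotEquivOfEq (show aN ⊔ aM.map (algebraMap A B) ⊔ mB = aN ⊔ mB by rw [sup_assoc, sup_eq_right.mpr (Ideal.map_mono haM : aM.map (algebraMap A B) ≤ mB)]))))
    rw [← he, ← maximalIdeal_height_eq_ringKrullDim (R := C), ← maximalIdeal_height_eq_ringKrullDim (R := C ⧸ K)]
    show ((maximalIdeal C).height : WithBot ℕ∞) ≤ ringKrullDim A' + _
    rw [← maximalIdeal_height_eq_ringKrullDim (R := A'), ← WithBot.coe_add]
    exact WithBot.coe_le_coe.mpr h3
  · -- lower bound
    have hbot : ∀ (R : Type u) [CommRing R] (T : Type u) [AddCommGroup T] [Module R T] [Nontrivial T],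
        Nonempty (Module.support R T) := fun R _ T _ _ _ => (Module.nonempty_support_of_nontrivial (R := R) (M := T)).to_subtype
    haveI := hbot A M
    haveI := hbot B (EGA4.FibMod A B N)
    haveI : Nonempty (Module.support B (N ⊗[A] M)) := by
      obtain ⟨⟨P, hP⟩⟩ := hbot B (EGA4.FibMod A B N)
      rw [Module.support_quotient] at hP
      refine ⟨⟨⟨maximalIdeal B, inferInstance⟩, ?_⟩⟩
      rw [support_tensor]
      refine ⟨Module.mem_support_mono (IsLocalRing.le_maximalIdeal P.isPrime.ne_top) hP.1, ?_⟩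
      rw [Set.mem_preimage, Module.support_eq_zeroLocus]
      intro x hx
      show algebraMap A B x ∈ maximalIdeal B
      exact IsLocalRing.map_maximalIdeal_le _ (Ideal.mem_map_of_mem _ (haM hx))
    show Order.krullDim _ + Order.krullDim _ ≤ Order.krullDim _
    rw [Order.krullDim_eq_iSup_length, Order.krullDim_eq_iSup_length, Order.krullDim_eq_iSup_length, ← WithBot.coe_add,
      WithBot.coe_le_coe]
    refine ENat.iSup_add_iSup_le fun l₁ l₂ => ?_
    -- descend the chain of `M` from the bottom of the fibre chain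
    have hdesc : ∀ (k : ℕ) (s : LTSeries (Module.support A M)), s.length = k →
        ∀ P ∈ Module.support B N, PrimeSpectrum.comap (algebraMap A B) P = s.last.1 →
        ∀ t : LTSeries (Module.support B (N ⊗[A] M)), t.head.1 = P →
        ∃ t' : LTSeries (Module.support B (N ⊗[A] M)), t'.length = t.length + k := by
      intro k
      induction k with
      | zero => exact fun s _ P _ _ t _ => ⟨t, rfl⟩
      | succ k ih =>
        intro s hs P hP hPs t ht
        haveI : NeZero s.length := ⟨by omega⟩
        have hlt : s.eraseLast.last < s.last := s.eraseLast_last_rel_last (by omega)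
        obtain ⟨Q, hQ, hQP, hQp⟩ := exists_mem_support_le (A := A) N P hP s.eraseLast.last.1 (hPs ▸ hlt.le)
        have hQlt : Q < P := lt_of_le_of_ne hQP fun h => hlt.ne (Subtype.ext (by rw [← hQp, h, hPs]))
        have hQmem : Q ∈ Module.support B (N ⊗[A] M) := by
          rw [support_tensor]
          exact ⟨hQ, show PrimeSpectrum.comap (algebraMap A B) Q ∈ Module.support A M from hQp ▸ s.eraseLast.last.2⟩
        obtain ⟨t', ht'⟩ := ih s.eraseLast (by simp [hs]) Q hQ hQp
          (t.cons ⟨Q, hQmem⟩ (show (⟨Q, hQmem⟩ : Module.support B (N ⊗[A] M)) < t.head from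
            show Q < t.head.1 from ht ▸ hQlt)) (by simp)
        exact ⟨t', by rw [ht', RelSeries.cons_length]; omega⟩
    have hmem : ∀ P ∈ Module.support B (EGA4.FibMod A B N), P ∈ Module.support B (N ⊗[A] M) ∧
        P ∈ Module.support B N ∧ (PrimeSpectrum.comap (algebraMap A B) P).asIdeal = maximalIdeal A := by
      intro P hP
      rw [Module.support_quotient] at hP
      have hcm : (PrimeSpectrum.comap (algebraMap A B) P).asIdeal = maximalIdeal A :=
        le_antisymm (IsLocalRing.le_maximalIdeal (PrimeSpectrum.comap _ P).isPrime.ne_top)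
          (Ideal.map_le_iff_le_comap.mp hP.2)
      refine ⟨?_, hP.1, hcm⟩
      rw [support_tensor, Set.mem_inter_iff, Set.mem_preimage, Module.support_eq_zeroLocus (M := M)]
      exact ⟨hP.1, show aM ≤ _ from hcm.symm ▸ haM⟩
    -- extend the chain of `M` to the maximal ideal
    obtain ⟨s, hs, hslast⟩ : ∃ s : LTSeries (Module.support A M), l₁.length ≤ s.length ∧
        s.last.1.asIdeal = maximalIdeal A := by
      by_cases h : l₁.last.1.asIdeal = maximalIdeal A
      · exact ⟨l₁, le_rfl, h⟩
      · let top : Module.support A M := ⟨⟨maximalIdeal A, inferInstance⟩, Module.mem_support_mono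
          (IsLocalRing.le_maximalIdeal l₁.last.1.isPrime.ne_top) l₁.last.2⟩
        exact ⟨l₁.snoc top (show l₁.last.1.asIdeal < maximalIdeal A from
          lt_of_le_of_ne (IsLocalRing.le_maximalIdeal l₁.last.1.isPrime.ne_top) h), by simp, by simp [top]⟩
    let t : LTSeries (Module.support B (N ⊗[A] M)) :=
      l₂.map (fun P => ⟨P.1, (hmem P.1 P.2).1⟩) (fun _ _ h => h)
    obtain ⟨t', ht'⟩ := hdesc s.length s rfl l₂.head.1 (hmem _ l₂.head.2).2.1
      (PrimeSpectrum.ext ((hmem _ l₂.head.2).2.2.trans hslast.symm)) t rfl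
    refine le_trans ?_ (le_iSup _ t')
    rw [ht', show t.length = l₂.length from rfl]
    exact_mod_cast (show l₁.length + l₂.length ≤ l₂.length + s.length by omega)

omit [Module.Flat A N] in
theorem depth_fibMod :
    LocCoh.depth (EGA4.FibRing A B) (EGA4.FibMod A B N) = LocCoh.depth B (EGA4.FibMod A B N) := by
  haveI : IsScalarTower B (EGA4.FibRing A B) (EGA4.FibMod A B N) :=
    IsScalarTower.of_algebraMap_smul fun _ _ => rfl
  have h := Groth.L04.idealDepth_eq_idealDepth_map_of_finite (B := EGA4.FibRing A B) (maximalIdeal B)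
    (EGA4.FibMod A B N)
  rw [LocCoh.depth, LocCoh.depth, h]
  congr 1
  exact (IsLocalRing.map_maximalIdeal_of_surjective _ Ideal.Quotient.mk_surjective).symm

omit [Module.Flat A N] [IsNoetherianRing A] in
theorem supportDim_fibMod :
    Module.supportDim (EGA4.FibRing A B) (EGA4.FibMod A B N) = Module.supportDim B (EGA4.FibMod A B N) := by
  haveI : IsScalarTower B (EGA4.FibRing A B) (EGA4.FibMod A B N) :=
    IsScalarTower.of_algebraMap_smul fun _ _ => rfl
  haveI : Module.Finite (EGA4.FibRing A B) (EGA4.FibMod A B N) := Module.Finite.of_restrictScalars_finite B _ _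
  rw [Module.supportDim_eq_ringKrullDim_quotient_annihilator, Module.supportDim_eq_ringKrullDim_quotient_annihilator]
  have h : Module.annihilator B (EGA4.FibMod A B N) =
      (Module.annihilator (EGA4.FibRing A B) (EGA4.FibMod A B N)).comap (Ideal.Quotient.mk _) := by
    ext b; simp only [Module.mem_annihilator, Ideal.mem_comap]; rfl
  exact ringKrullDim_eq_of_ringEquiv ((RingHom.quotientKerEquivOfSurjective
    (f := (Ideal.Quotient.mk _).comp (Ideal.Quotient.mk (EGA4.mB A B)))
    (Ideal.Quotient.mk_surjective.comp Ideal.Quotient.mk_surjective)).symm.trans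
      (Ideal.quotEquivOfEq (by rw [← RingHom.comap_ker, Ideal.mk_ker, h])))

theorem isCohenMacaulayModule_tensor_iff [Nontrivial M] [Nontrivial N] :
    LocCoh.IsCohenMacaulayModule B (N ⊗[A] M) ↔
      LocCoh.IsCohenMacaulayModule A M ∧ LocCoh.IsCohenMacaulayModule (EGA4.FibRing A B) (EGA4.FibMod A B N) := by
  haveI := nontrivial_fibMod (A := A) (B := B) N
  simp only [LocCoh.IsCohenMacaulayModule, supportDim_tensor, depth_tensor, supportDim_fibMod, depth_fibMod]
  have h₁ := Groth.L04.depth_le_supportDim (R := A) (M := M)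
  have h₂ := Groth.L04.depth_le_supportDim (R := B) (M := EGA4.FibMod A B N)
  have hfin : LocCoh.depth A M + LocCoh.depth B (EGA4.FibMod A B N) ≠ ⊤ := WithTop.add_ne_top.mpr
    ⟨Groth.L04.idealDepth_ne_top (Groth.L04.smul_top_ne_top_of_nontrivial (maximalIdeal.isMaximal A).ne_top),
      Groth.L04.idealDepth_ne_top (Groth.L04.smul_top_ne_top_of_nontrivial (maximalIdeal.isMaximal B).ne_top)⟩
  obtain ⟨hA, hB⟩ := WithTop.add_ne_top.mp hfin
  obtain ⟨a, ha⟩ := ENat.ne_top_iff_exists.mp hA
  obtain ⟨b, hb⟩ := ENat.ne_top_iff_exists.mp hB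
  rw [← ha] at h₁ ⊢
  rw [← hb] at h₂ ⊢
  obtain ⟨x, hx⟩ := WithBot.ne_bot_iff_exists.mp (ne_bot_of_le_ne_bot WithBot.coe_ne_bot h₁)
  obtain ⟨y, hy⟩ := WithBot.ne_bot_iff_exists.mp (ne_bot_of_le_ne_bot WithBot.coe_ne_bot h₂)
  rw [← hx] at h₁ ⊢
  rw [← hy] at h₂ ⊢
  rw [← WithBot.coe_add, WithBot.coe_inj, WithBot.coe_inj, WithBot.coe_inj]
  rw [WithBot.coe_le_coe] at h₁ h₂
  constructor
  · intro h
    cases x using ENat.recTopCoe with
    | top => simp at h; exact absurd h (by exact_mod_cast ENat.coe_ne_top (a + b) |>.symm)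
    | coe x =>
      cases y using ENat.recTopCoe with
      | top => simp at h; exact absurd h (by exact_mod_cast ENat.coe_ne_top (a + b) |>.symm)
      | coe y => norm_cast at h h₁ h₂ ⊢; omega
  · rintro ⟨rfl, rfl⟩; rfl

end Local

end L02.CMMor
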