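import Groth.Agent.L02.CMMor.FlatDepth
import Groth.Agent.L06.FlatFibre
import Groth.Agent.L06.FormSmoothField2
import Groth.Agent.L04.RegularPd
import Mathlib.RingTheory.AlgebraicIndependent.TranscendenceBasis
import Mathlib.FieldTheory.IntermediateField.Adjoin.Algebra
import Mathlib.RingTheory.RegularLocalRing.Polynomial
import Mathlib.RingTheory.TensorProduct.MvPolynomial
import Mathlib.RingTheory.EssentialFiniteness

/-!
Cohen–Macaulay local rings along flat maps; tensor products of fields are Cohen–Macaulay.
-/

set_option autoImplicit false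
set_option linter.style.haveILetI false
universe u

open IsLocalRing TensorProduct

namespace L02.CMMor

theorem cm_mk {R : Type u} [CommRing R] [IsNoetherianRing R] [IsLocalRing R]
    (h : LocCoh.IsCohenMacaulayModule R R) : LocCoh.IsCohenMacaulayLocalRing R :=
  { (inferInstance : IsNoetherianRing R), (inferInstance : IsLocalRing R) with supportDim_eq_depth := h }

theorem cm_of_ringEquiv {R R' : Type u} [CommRing R] [CommRing R'] (e : R ≃+* R')
    (h : LocCoh.IsCohenMacaulayLocalRing R) : LocCoh.IsCohenMacaulayLocalRing R' := by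
  haveI := h
  haveI : IsLocalRing R' := e.isLocalRing
  haveI : IsNoetherianRing R' := isNoetherianRing_of_ringEquiv _ e
  refine cm_mk ?_
  show Module.supportDim R' R' = _
  rw [Module.supportDim_self_eq_ringKrullDim, ← ringKrullDim_eq_of_ringEquiv e,
    Groth.L06.FlatFibre.depth_eq_of_ringEquiv e, ← Module.supportDim_self_eq_ringKrullDim]
  exact h.supportDim_eq_depth

theorem cm_of_dim_le_zero {R : Type u} [CommRing R] [IsNoetherianRing R] [IsLocalRing R]
    (h : ringKrullDim R ≤ 0) : LocCoh.IsCohenMacaulayLocalRing R := by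
  refine cm_mk (Groth.L04.isCohenMacaulayModule_iff_supportDim_le.mpr ?_)
  rw [Module.supportDim_self_eq_ringKrullDim]
  exact h.trans (WithBot.coe_le_coe.mpr zero_le)

section Local

variable (A B : Type u) [CommRing A] [IsLocalRing A] [IsNoetherianRing A] [CommRing B]
  [IsLocalRing B] [IsNoetherianRing B] [Algebra A B] [IsLocalHom (algebraMap A B)] [Module.Flat A B]

theorem cm_iff_of_flat : LocCoh.IsCohenMacaulayLocalRing B ↔
    LocCoh.IsCohenMacaulayLocalRing A ∧ LocCoh.IsCohenMacaulayLocalRing (EGA4.FibRing A B) := by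
  haveI : Nontrivial (EGA4.FibRing A B) := EGA4.mB_ne_top_nontrivial A B
  haveI : IsLocalRing (EGA4.FibRing A B) := IsLocalRing.of_surjective' _ Ideal.Quotient.mk_surjective
  have hB : LocCoh.IsCohenMacaulayModule B (B ⊗[A] A) ↔ LocCoh.IsCohenMacaulayModule B B := by
    show Module.supportDim B (B ⊗[A] A) = _ ↔ Module.supportDim B B = _
    rw [Module.supportDim_eq_of_equiv (AlgebraTensorModule.rid A B B), LocCoh.depth,
      Groth.L04.idealDepth_congr (AlgebraTensorModule.rid A B B)]
    rfl
  have hF : LocCoh.IsCohenMacaulayModule (EGA4.FibRing A B) (EGA4.FibMod A B B) ↔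
      LocCoh.IsCohenMacaulayModule (EGA4.FibRing A B) (EGA4.FibRing A B) := by
    let e : EGA4.FibMod A B B ≃ₗ[B] EGA4.FibRing A B :=
      Submodule.quotEquivOfEq _ _ (by rw [smul_eq_mul, Ideal.mul_top])
    show Module.supportDim (EGA4.FibRing A B) (EGA4.FibMod A B B) = _ ↔
      Module.supportDim (EGA4.FibRing A B) (EGA4.FibRing A B) = _
    rw [supportDim_fibMod (A := A) (B := B) B, depth_fibMod (A := A) (B := B) B, Module.supportDim_eq_of_equiv e,
      LocCoh.depth, Groth.L04.idealDepth_congr e, Groth.L06.FlatFibre.depth_fibRing_eq,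
      Module.supportDim_quotient_eq_ringKrullDim, Module.supportDim_self_eq_ringKrullDim]
  refine ⟨fun h => ?_, fun h => cm_mk ?_⟩
  · obtain ⟨h1, h2⟩ := (isCohenMacaulayModule_tensor_iff B A).mp (hB.mpr h.supportDim_eq_depth)
    exact ⟨cm_mk h1, cm_mk (hF.mp h2)⟩
  · exact hB.mp ((isCohenMacaulayModule_tensor_iff B A).mpr
      ⟨h.1.supportDim_eq_depth, hF.mpr h.2.supportDim_eq_depth⟩)

end Local

/-- A flat algebra with Cohen–Macaulay fibres over a Cohen–Macaulay ring is Cohen–Macaulay. -/
theorem isCohenMacaulayRing_of_flat {R S : Type u} [CommRing R] [CommRing S] [Algebra R S] [Module.Flat R S]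
    [IsNoetherianRing S] (hR : LocCoh.IsCohenMacaulayRing R)
    (hfib : ∀ (p : Ideal R) [p.IsPrime] (q : Ideal (p.Fiber S)) [q.IsPrime],
      LocCoh.IsCohenMacaulayLocalRing (Localization.AtPrime q)) : LocCoh.IsCohenMacaulayRing S where
  isCohenMacaulayLocalRing_localization P _ := by
    haveI := hR
    obtain ⟨i, hl, hf, q, hq, ⟨e⟩⟩ := Groth.L06.FlatFibre.exists_local_fibre (P.comap (algebraMap R S)) P (S := S)
    letI := i
    haveI := hl
    haveI := hf
    exact (cm_iff_of_flat (Localization.AtPrime (P.comap (algebraMap R S))) (Localization.AtPrime P)).mpr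
      ⟨LocCoh.IsCohenMacaulayRing.isCohenMacaulayLocalRing_localization _, cm_of_ringEquiv e (hfib _ q)⟩

/-- A finite flat algebra over a Cohen–Macaulay ring is Cohen–Macaulay. -/
theorem isCohenMacaulayRing_of_flat_finite {R S : Type u} [CommRing R] [CommRing S] [Algebra R S] [Module.Flat R S]
    [Module.Finite R S] (hR : LocCoh.IsCohenMacaulayRing R) : LocCoh.IsCohenMacaulayRing S := by
  haveI := hR
  haveI : IsNoetherianRing S := IsNoetherianRing.of_finite R S
  refine isCohenMacaulayRing_of_flat hR fun p _ q _ => ?_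
  haveI : IsArtinianRing (p.Fiber S) := IsArtinianRing.of_finite p.ResidueField _
  refine cm_of_dim_le_zero ?_
  rw [IsLocalization.AtPrime.ringKrullDim_eq_height q (Localization.AtPrime q)]
  exact (Ideal.height_le_ringKrullDim_of_ne_top (Ideal.IsPrime.ne_top ‹_›)).trans
    (by simpa using (Ring.krullDimLE_iff.mp (inferInstance : Ring.KrullDimLE 0 (p.Fiber S))))

theorem isCohenMacaulayRing_of_ringEquiv {R R' : Type u} [CommRing R] [CommRing R'] (e : R ≃+* R')
    (h : LocCoh.IsCohenMacaulayRing R) : LocCoh.IsCohenMacaulayRing R' := by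
  haveI := h
  haveI : IsNoetherianRing R' := isNoetherianRing_of_ringEquiv _ e
  refine ⟨fun p hp => ?_⟩
  haveI : (p.comap (e : R →+* R')).IsPrime := inferInstance
  refine cm_of_ringEquiv ?_ (h.isCohenMacaulayLocalRing_localization (p.comap (e : R →+* R')))
  refine IsLocalization.ringEquivOfRingEquiv (M := (p.comap (e : R →+* R')).primeCompl) (T := p.primeCompl)
    (Localization.AtPrime (p.comap (e : R →+* R'))) (Localization.AtPrime p) e ?_
  ext x
  rw [Submonoid.mem_map]
  exact ⟨fun ⟨y, hy, hyx⟩ => hyx ▸ hy, fun hx => ⟨e.symm x, show e (e.symm x) ∉ p by simpa using hx, by simp⟩⟩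

/-- A tensor product of fields, the first of which is finitely generated, is Noetherian and Cohen–Macaulay. -/
theorem isCohenMacaulayRing_tensor (k K L : Type u) [Field k] [Field K] [Field L] [Algebra k K] [Algebra k L]
    [Algebra.EssFiniteType k K] : LocCoh.IsCohenMacaulayRing (K ⊗[k] L) := by
  classical
  let s : Finset K := Algebra.EssFiniteType.finset k K
  haveI : Algebra.IsAlgebraic (Algebra.adjoin k (s : Set K)) K := ⟨fun x => by
    obtain ⟨⟨a, b⟩, hab⟩ := IsLocalization.surj (Algebra.EssFiniteType.submonoid k K) x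
    have hb : (algebraMap (Algebra.EssFiniteType.subalgebra k K) K b : K) ≠ 0 := IsUnit.ne_zero b.2
    refine ⟨Polynomial.C b.1 * Polynomial.X - Polynomial.C a, fun h0 => hb ?_, ?_⟩
    · have := congrArg (fun f => Polynomial.coeff f 1) h0
      simp only [Polynomial.coeff_sub, Polynomial.coeff_C_mul_X, Polynomial.coeff_C_succ, sub_zero,
        if_true, Polynomial.coeff_zero] at this
      exact (congrArg _ this).trans (map_zero _)
    · rw [map_sub, map_mul, Polynomial.aeval_C, Polynomial.aeval_C, Polynomial.aeval_X, sub_eq_zero, mul_comm]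
      exact hab⟩
  obtain ⟨t, hts, ht⟩ := exists_isTranscendenceBasis_subset (R := k) (A := K) (s : Set K)
  haveI : Finite t := (s.finite_toSet.subset hts).to_subtype
  let P := MvPolynomial t k
  letI : Algebra P K := (MvPolynomial.aeval (R := k) ((↑) : t → K)).toRingHom.toAlgebra
  haveI : IsScalarTower k P K := IsScalarTower.of_algebraMap_eq fun r => (MvPolynomial.aeval_C _ r).symm
  have hinj : Function.Injective (algebraMap P K) := ht.1
  haveI : FaithfulSMul P K := (faithfulSMul_iff_algebraMap_injective P K).mpr hinj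
  let F := FractionRing P
  letI : Algebra F K := FractionRing.liftAlgebra P K
  haveI : IsScalarTower k F K := IsScalarTower.of_algebraMap_eq fun r => by
    rw [IsScalarTower.algebraMap_apply k P K, IsScalarTower.algebraMap_apply k P F,
      ← IsScalarTower.algebraMap_apply P F K]
  haveI : Algebra.IsAlgebraic F K := ⟨fun x => by
    haveI := ht.isAlgebraic
    obtain ⟨f, hf0, hfx⟩ := Algebra.IsAlgebraic.isAlgebraic (R := Algebra.adjoin k (Set.range ((↑) : t → K))) x
    have : IsAlgebraic P x := by
      let e := ht.1.aevalEquiv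
      refine ⟨f.map e.symm.toAlgHom.toRingHom, (Polynomial.map_ne_zero_iff e.symm.injective).mpr hf0, ?_⟩
      rw [Polynomial.aeval_def, Polynomial.eval₂_map, ← hfx, Polynomial.aeval_def]
      congr 1
      refine RingHom.ext fun z => ?_
      show MvPolynomial.aeval ((↑) : t → K) (e.symm z) = (z : K)
      exact congrArg Subtype.val (e.apply_symm_apply z)
    exact (IsFractionRing.isAlgebraic_iff P F K).mp this⟩
  haveI : Algebra.EssFiniteType F K := Algebra.EssFiniteType.of_comp k F K
  haveI : Module.Finite F K := Algebra.finite_of_essFiniteType_of_isAlgebraic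
  -- the transcendental part
  let R := P ⊗[k] L
  haveI : IsRegularRing R := IsRegularRing.of_ringEquiv
    ((Algebra.TensorProduct.comm k P L).trans
      ((MvPolynomial.algebraTensorAlgEquiv k L).restrictScalars k)).toRingEquiv.symm
  letI : Algebra R (F ⊗[P] R) := Algebra.TensorProduct.rightAlgebra
  haveI : IsLocalization (Algebra.algebraMapSubmonoid R (nonZeroDivisors P)) (F ⊗[P] R) :=
    IsLocalization.tensorRight (R := P) (S := R) F (nonZeroDivisors P)
  haveI : IsRegularRing (F ⊗[P] R) :=
    Groth.L06.FormSmooth.isRegularRing_of_isLocalization (Algebra.algebraMapSubmonoid R (nonZeroDivisors P)) _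
  let T := F ⊗[k] L
  haveI : IsRegularRing T :=
    IsRegularRing.of_ringEquiv (Algebra.TensorProduct.cancelBaseChange k P F F L).toRingEquiv
  -- the finite part
  have hT : LocCoh.IsCohenMacaulayRing (T ⊗[F] K) :=
    isCohenMacaulayRing_of_flat_finite (R := T) (Groth.L04.isCohenMacaulayRing_of_regularRing)
  exact isCohenMacaulayRing_of_ringEquiv
    ((Algebra.TensorProduct.comm F T K).toRingEquiv.trans
      (Algebra.TensorProduct.cancelBaseChange k F K K L).toRingEquiv) hT

end L02.CMMor
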