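import Groth.Agent.L02.CMMor.BaseChange
import Groth.Agent.L02.CAlg.QFSlice.QuasiFiniteSlice
import Groth.Agent.L20.FibreStalk
import Groth.Agent.S9152
import Mathlib.RingTheory.LocalRing.ResidueField.Fiber
import Mathlib.Topology.JacobsonSpace

/-! Openness and fibrewise density of the Cohen–Macaulay locus. -/

set_option autoImplicit false
set_option linter.style.haveILetI false
universe u

open CategoryTheory CategoryTheory.Limits AlgebraicGeometry

namespace L02.CMMor

theorem exists_fibre_local_equiv {R B : Type u} [CommRing R] [CommRing B] [Algebra R B] (p : Ideal R) [p.IsPrime]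
    (P : Ideal B) [P.IsPrime] [P.LiesOver p] :
    ∃ (q : Ideal (p.Fiber B)) (_ : q.IsPrime),
      Nonempty (Localization.AtPrime q ≃+* Localization.AtPrime P ⧸ p.map (algebraMap R (Localization.AtPrime P))) := by
  obtain ⟨q, hq⟩ : ∃ q : PrimeSpectrum (p.Fiber B),
      q.asIdeal.comap Algebra.TensorProduct.includeRight = P := by
    refine ⟨PrimeSpectrum.preimageEquivFiber R B ⟨p, inferInstance⟩
      ⟨⟨P, inferInstance⟩, PrimeSpectrum.ext (P.over_def p).symm⟩, ?_⟩
    have := (PrimeSpectrum.preimageEquivFiber R B ⟨p, inferInstance⟩).symm_apply_apply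
      ⟨⟨P, inferInstance⟩, PrimeSpectrum.ext (P.over_def p).symm⟩
    exact congrArg (fun z => z.1.asIdeal) this
  subst hq
  letI := Localization.AtPrime.algebraOfLiesOver p
    (q.asIdeal.comap (Algebra.TensorProduct.includeRight (R := R) (A := p.ResidueField) (B := B)))
  exact ⟨q.asIdeal, q.isPrime, ⟨(Ideal.Fiber.localizationAlgEquivQuotient p q.asIdeal).toRingEquiv⟩⟩

/-- Modulo the prime of the base, a quasi-finite flat algebra over an algebra with Cohen–Macaulay fibres is
Cohen–Macaulay. -/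
theorem cm_fibre_of_quasiFinite_flat {R B T : Type u} [CommRing R] [CommRing B] [CommRing T] [Algebra R B]
    [Algebra R T] [Algebra B T] [IsScalarTower R B T] [Algebra.FiniteType R B] [Algebra.FiniteType R T]
    [Module.Flat B T] (hB : ∀ (p : Ideal R) [p.IsPrime], LocCoh.IsCohenMacaulayRing (p.Fiber B))
    (Q : Ideal T) [Q.IsPrime] [Algebra.QuasiFiniteAt B Q] :
    LocCoh.IsCohenMacaulayLocalRing
      (Localization.AtPrime Q ⧸ (Q.under R).map (algebraMap R (Localization.AtPrime Q))) := by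
  let p := Q.under R
  let P := Q.under B
  haveI : P.LiesOver p := ⟨(Ideal.under_under Q).symm⟩
  haveI : Q.LiesOver p := ⟨rfl⟩
  let TQ := Localization.AtPrime Q
  let BP := Localization.AtPrime P
  let g := Localization.localRingHom P Q (algebraMap B T) rfl
  haveI : IsLocalHom g := Localization.isLocalHom_localRingHom _ _ _ _
  have hg : g.Flat := RingHom.Flat.localRingHom (RingHom.flat_algebraMap_iff.mpr inferInstance) _ P rfl
  have hgB : ∀ b, g (algebraMap B BP b) = algebraMap T TQ (algebraMap B T b) :=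
    fun b => Localization.localRingHom_to_map P Q (algebraMap B T) rfl b
  let JB := p.map (algebraMap R BP)
  have hJ : JB.map g = p.map (algebraMap R TQ) := by
    rw [Ideal.map_map]
    congr 1
    refine RingHom.ext fun r => ?_
    rw [RingHom.comp_apply, IsScalarTower.algebraMap_apply R B BP, hgB, ← IsScalarTower.algebraMap_apply,
      ← IsScalarTower.algebraMap_apply]
  obtain ⟨qB, _, ⟨eB⟩⟩ := exists_fibre_local_equiv p P
  obtain ⟨qT, _, ⟨eT⟩⟩ := exists_fibre_local_equiv p Q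
  haveI hC : LocCoh.IsCohenMacaulayLocalRing (BP ⧸ JB) :=
    cm_of_ringEquiv eB ((hB p).isCohenMacaulayLocalRing_localization qB)
  haveI : IsNoetherianRing (p.Fiber T) := Algebra.FiniteType.isNoetherianRing p.ResidueField _
  haveI : IsNoetherianRing (Localization.AtPrime qT) := IsLocalization.isNoetherianRing qT.primeCompl _ inferInstance
  haveI : IsLocalRing (TQ ⧸ JB.map g) := (eT.trans (Ideal.quotEquivOfEq hJ.symm)).isLocalRing
  haveI : IsNoetherianRing (TQ ⧸ JB.map g) := isNoetherianRing_of_ringEquiv _ (eT.trans (Ideal.quotEquivOfEq hJ.symm))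
  letI : Algebra (BP ⧸ JB) (TQ ⧸ JB.map g) := (Ideal.quotientMap (JB.map g) g Ideal.le_comap_map).toAlgebra
  haveI : Module.Flat (BP ⧸ JB) (TQ ⧸ JB.map g) := Groth.L20.flat_quotientMap_of_flat g JB hg
  haveI : IsLocalHom (Ideal.Quotient.mk (JB.map g)) := IsLocalHom.of_surjective _ Ideal.Quotient.mk_surjective
  haveI : IsLocalHom (algebraMap (BP ⧸ JB) (TQ ⧸ JB.map g)) := ⟨fun z hz => by
    obtain ⟨z, rfl⟩ := Ideal.Quotient.mk_surjective z
    exact (IsUnit.of_map g _ (IsUnit.of_map (Ideal.Quotient.mk (JB.map g)) _ hz)).map _⟩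
  refine cm_of_ringEquiv (Ideal.quotEquivOfEq hJ)
    ((cm_iff_of_flat (BP ⧸ JB) (TQ ⧸ JB.map g)).mpr ⟨hC, ?_⟩)
  haveI : IsLocalRing (EGA4.FibRing (BP ⧸ JB) (TQ ⧸ JB.map g)) :=
    haveI := EGA4.mB_ne_top_nontrivial (BP ⧸ JB) (TQ ⧸ JB.map g)
    IsLocalRing.of_surjective' _ Ideal.Quotient.mk_surjective
  refine cm_of_dim_le_zero ?_
  let K := (IsLocalRing.maximalIdeal BP).map g
  let π : TQ →+* EGA4.FibRing (BP ⧸ JB) (TQ ⧸ JB.map g) := (Ideal.Quotient.mk _).comp (Ideal.Quotient.mk _)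
  have hπ : K ≤ RingHom.ker π := by
    refine Ideal.map_le_iff_le_comap.mpr fun b hb => ?_
    rw [Ideal.mem_comap, RingHom.mem_ker]
    refine Ideal.Quotient.eq_zero_iff_mem.mpr ?_
    refine Ideal.mem_map_of_mem (Ideal.quotientMap (JB.map g) g Ideal.le_comap_map)
      (show Ideal.Quotient.mk JB b ∈ IsLocalRing.maximalIdeal (BP ⧸ JB) from ?_)
    rw [IsLocalRing.mem_maximalIdeal]
    intro hu
    haveI : IsLocalHom (Ideal.Quotient.mk JB) := IsLocalHom.of_surjective _ Ideal.Quotient.mk_surjective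
    exact (IsLocalRing.mem_maximalIdeal _).mp hb (IsUnit.of_map (Ideal.Quotient.mk JB) _ hu)
  refine (ringKrullDim_le_of_surjective (Ideal.Quotient.lift K π fun a ha => RingHom.mem_ker.mp (hπ ha))
    (Ideal.Quotient.lift_surjective_of_surjective _ _ (Ideal.Quotient.mk_surjective.comp Ideal.Quotient.mk_surjective))).trans ?_
  rw [← Nat.cast_zero, ← Ring.krullDimLE_iff]
  refine Ring.krullDimLE_zero_iff.mpr fun P' hP' => ?_
  haveI := hP'
  let Q' := P'.comap (Ideal.Quotient.mk K)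
  have hK : K ≤ Q' := fun a ha => by
    rw [Ideal.mem_comap, Ideal.Quotient.eq_zero_iff_mem.mpr ha]; exact zero_mem _
  have hmax : (IsLocalRing.maximalIdeal TQ).under B = P := by
    rw [← Ideal.under_under (B := T), show (IsLocalRing.maximalIdeal TQ).under T = Q from
      IsLocalization.AtPrime.comap_maximalIdeal TQ Q]
  have hQ' : Q' = IsLocalRing.maximalIdeal TQ := by
    refine Algebra.QuasiFinite.eq_of_le_of_under_eq (R := B) Q' _
      (IsLocalRing.le_maximalIdeal (Ideal.IsPrime.ne_top inferInstance)) (le_antisymm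
        (Ideal.comap_mono (IsLocalRing.le_maximalIdeal (Ideal.IsPrime.ne_top inferInstance))) ?_)
    rw [hmax]
    intro b hb
    show algebraMap B TQ b ∈ Q'
    refine hK ?_
    rw [IsScalarTower.algebraMap_apply B T TQ, ← hgB]
    refine Ideal.mem_map_of_mem g ?_
    exact (IsLocalization.AtPrime.to_map_mem_maximal_iff BP P b).mpr hb
  haveI : Q'.IsMaximal := hQ' ▸ IsLocalRing.maximalIdeal.isMaximal TQ
  exact (Ideal.map_comap_of_surjective (Ideal.Quotient.mk K) Ideal.Quotient.mk_surjective P') ▸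
    ((Ideal.map_eq_top_or_isMaximal_of_surjective (Ideal.Quotient.mk K) Ideal.Quotient.mk_surjective
      ‹Q'.IsMaximal›).resolve_left (fun h => hP'.ne_top (by
        rwa [Ideal.map_comap_of_surjective _ Ideal.Quotient.mk_surjective] at h)))

/-- The fibres of affine space are Cohen–Macaulay. -/
theorem isCohenMacaulayRing_fibre_mvPolynomial (R : Type u) [CommRing R] (c : ℕ) (p : Ideal R) [p.IsPrime] :
    LocCoh.IsCohenMacaulayRing (p.Fiber (MvPolynomial (Fin c) R)) := by
  haveI : IsRegularRing (p.Fiber (MvPolynomial (Fin c) R)) := IsRegularRing.of_ringEquiv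
    ((MvPolynomial.algebraTensorAlgEquiv R p.ResidueField).restrictScalars R).toRingEquiv.symm
  exact Groth.L04.isCohenMacaulayRing_of_regularRing

theorem isClosed_asFiber {X S : Scheme.{u}} (f : X ⟶ S) (s : S) (z : f.fiber s) (y : X) (hy : f.fiberι s z = y)
    (hz : IsClosed ({z} : Set ↑(f.fiber s))) : IsClosed ({f.asFiber y} : Set ↑(f.fiber (f y))) := by
  have hs : f y = s := by
    have : f.fiberι s z ∈ Set.range (f.fiberι s) := ⟨z, rfl⟩
    rw [f.range_fiberι s, hy] at this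
    exact this
  subst hs
  have : z = f.asFiber y :=
    (f.fiberι (f y)).isEmbedding.injective (hy.trans (f.fiberι_asFiber y).symm)
  rwa [← this]

theorem isCMAt_of_fiber {X S : Scheme.{u}} (f : X ⟶ S) [Flat f] (s : S) (z : f.fiber s)
    (h : LocCoh.IsCohenMacaulayLocalRing ((f.fiber s).presheaf.stalk z)) : MoreMor.IsCMAt f (f.fiberι s z) := by
  letI := (f.stalkMap (f.fiberι s z)).hom.toAlgebra
  obtain ⟨e⟩ := Groth.L07.CIScheme.exists_fiberStalkEquiv f s z (f.fiberι s z) rfl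
  exact ⟨Flat.stalkMap f _, (cm_fibre_iff f _).1 (cm_of_ringEquiv e.symm h)⟩

/-- Near a Cohen–Macaulay point that is closed in its fibre, all points are Cohen–Macaulay. -/
theorem exists_nhd_of_closed {X S : Scheme.{u}} (f : X ⟶ S) [Flat f] [LocallyOfFinitePresentation f] (x : X)
    (hcm : MoreMor.IsCMAt f x) (hcl : IsClosed ({f.asFiber x} : Set ↑(f.fiber (f x)))) :
    ∃ W : X.Opens, x ∈ W ∧ ∀ y ∈ W, MoreMor.IsCMAt f y := by
  classical
  obtain ⟨c, V, hV, U, hU, hUV, hx, t, hgerm, -, hflat, hiso⟩ :=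
    L02.CAlg.QFSlice.exists_slice_isolated f x hcm hcl
  letI : Algebra Γ(S, V) Γ(X, U) := (f.appLE V U hUV).hom.toAlgebra
  haveI : Algebra.FinitePresentation Γ(S, V) Γ(X, U) := f.finitePresentation_appLE hV hU hUV
  obtain ⟨φ, hφ⟩ : ∃ φ : MvPolynomial (Fin c) Γ(S, V) →ₐ[Γ(S, V)] Γ(X, U), φ = MvPolynomial.aeval t := ⟨_, rfl⟩
  letI : Algebra (MvPolynomial (Fin c) Γ(S, V)) Γ(X, U) := φ.toRingHom.toAlgebra
  haveI : IsScalarTower Γ(S, V) (MvPolynomial (Fin c) Γ(S, V)) Γ(X, U) :=
    IsScalarTower.of_algebraMap_eq fun r => (φ.commutes r).symm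
  haveI : Module.Flat (MvPolynomial (Fin c) Γ(S, V)) Γ(X, U) := by subst hφ; exact hflat
  haveI : Algebra.FiniteType (MvPolynomial (Fin c) Γ(S, V)) Γ(X, U) :=
    Algebra.FiniteType.of_restrictScalars_finiteType Γ(S, V) _ _
  let q := (hU.primeIdealOf ⟨x, hx⟩).asIdeal
  letI : Algebra Γ(X, U) (X.presheaf.stalk x) := (X.presheaf.germ U x hx).hom.toAlgebra
  haveI hloc : IsLocalization.AtPrime (X.presheaf.stalk x) q := hU.isLocalization_stalk ⟨x, hx⟩
  have hX : ∀ i, algebraMap (MvPolynomial (Fin c) Γ(S, V)) Γ(X, U) (MvPolynomial.X i) = t i := fun i => by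
    show φ (MvPolynomial.X i) = t i
    rw [hφ, MvPolynomial.aeval_X]
  haveI : Algebra.QuasiFiniteAt (MvPolynomial (Fin c) Γ(S, V)) q :=
    haveI : q.LiesOver (q.under (MvPolynomial (Fin c) Γ(S, V))) := ⟨rfl⟩
    L02.CAlg.QFSlice.quasiFiniteAt_of_isolated (q.under (MvPolynomial (Fin c) Γ(S, V))) q
    fun q' hq' hq'p hcomp => hiso q' hq' (Ideal.span_le.mpr fun a ha => by
        obtain ⟨i, rfl⟩ := List.mem_ofFn.mp ha
        have h1 : MvPolynomial.X i ∈ q.under (MvPolynomial (Fin c) Γ(S, V)) := by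
          show algebraMap _ Γ(X, U) (MvPolynomial.X i) ∈ q
          rw [hX]
          exact (IsLocalization.AtPrime.to_map_mem_maximal_iff (X.presheaf.stalk x) q _).mp (hgerm i)
        rw [hq'p.over] at h1
        rw [SetLike.mem_coe, ← hX]
        exact h1)
      (by rw [← Ideal.under_under (A := Γ(S, V)) (B := MvPolynomial (Fin c) Γ(S, V)) q', ← hq'p.over,
        Ideal.under_under])
      hcomp
  obtain ⟨S'', hS'', r', hr', hbij⟩ := Algebra.QuasiFiniteAt.exists_fg_and_exists_notMem_and_awayMap_bijective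
    (R := MvPolynomial (Fin c) Γ(S, V)) q
  haveI : Module.Finite (MvPolynomial (Fin c) Γ(S, V)) S'' := ⟨(Submodule.fg_top _).mpr hS''⟩
  haveI : Algebra.QuasiFinite (MvPolynomial (Fin c) Γ(S, V)) (Localization.Away r') := .trans _ S'' _
  let r : Γ(X, U) := S''.val r'
  haveI hQF : Algebra.QuasiFinite (MvPolynomial (Fin c) Γ(S, V)) (Localization.Away r) := by
    let fa : Localization.Away r' →ₐ[MvPolynomial (Fin c) Γ(S, V)] Localization.Away (S''.val r') :=
      Localization.awayMapₐ S''.val r'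
    exact Algebra.QuasiFinite.of_surjective_algHom fa (show Function.Surjective fa from hbij.2)
  refine ⟨X.basicOpen r, ?_, fun y hy => ?_⟩
  · rw [Scheme.mem_basicOpen X r x hx]
    exact IsLocalization.map_units (X.presheaf.stalk x) (⟨r, hr'⟩ : q.primeCompl)
  have hyU : y ∈ U := X.basicOpen_le r hy
  let Q := (hU.primeIdealOf ⟨y, hyU⟩).asIdeal
  letI : Algebra Γ(X, U) (X.presheaf.stalk y) := (X.presheaf.germ U y hyU).hom.toAlgebra
  haveI : IsLocalization.AtPrime (X.presheaf.stalk y) Q := hU.isLocalization_stalk ⟨y, hyU⟩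
  have hrQ : r ∉ Q := fun h => by
    rw [Scheme.mem_basicOpen X r y hyU] at hy
    exact (IsLocalRing.mem_maximalIdeal _).mp
      ((IsLocalization.AtPrime.to_map_mem_maximal_iff (X.presheaf.stalk y) Q r).mpr h) hy
  haveI : Algebra.QuasiFiniteAt (MvPolynomial (Fin c) Γ(S, V)) Q := by
    let l : Localization.Away r →ₐ[MvPolynomial (Fin c) Γ(S, V)] Localization.AtPrime Q :=
      IsLocalization.liftAlgHom (M := Submonoid.powers r)
        (f := IsScalarTower.toAlgHom (MvPolynomial (Fin c) Γ(S, V)) Γ(X, U) (Localization.AtPrime Q)) fun a => by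
        obtain ⟨_, n, rfl⟩ := a
        rw [IsScalarTower.coe_toAlgHom', map_pow]
        exact (IsLocalization.map_units (Localization.AtPrime Q) (⟨r, hrQ⟩ : Q.primeCompl)).pow n
    refine Algebra.QuasiFinite.of_forall_exists_mul_mem_range l fun z => ?_
    obtain ⟨a, s, rfl⟩ := IsLocalization.exists_mk'_eq Q.primeCompl z
    refine ⟨algebraMap _ _ (s : Γ(X, U)), by simpa [l] using IsLocalization.map_units _ s,
      algebraMap _ _ a, by simp [l]⟩
  have key := cm_fibre_of_quasiFinite_flat (R := Γ(S, V)) (B := MvPolynomial (Fin c) Γ(S, V))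
    (fun p _ => isCohenMacaulayRing_fibre_mvPolynomial _ c p) Q
  -- transport to the stalks
  letI : Algebra Γ(S, V) (X.presheaf.stalk y) :=
    ((algebraMap Γ(X, U) (X.presheaf.stalk y)).comp (algebraMap Γ(S, V) Γ(X, U))).toAlgebra
  haveI : IsScalarTower Γ(S, V) Γ(X, U) (X.presheaf.stalk y) := IsScalarTower.of_algebraMap_eq fun _ => rfl
  let e := (IsLocalization.algEquiv Q.primeCompl (Localization.AtPrime Q) (X.presheaf.stalk y)).restrictScalars Γ(S, V)
  have hm : (IsLocalRing.maximalIdeal (S.presheaf.stalk (f y))).map (f.stalkMap y).hom =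
      (Q.under Γ(S, V)).map (algebraMap Γ(S, V) (X.presheaf.stalk y)) := by
    letI : Algebra Γ(S, V) (S.presheaf.stalk (f y)) := (S.presheaf.germ V (f y) (hUV hyU)).hom.toAlgebra
    haveI : IsLocalization.AtPrime (S.presheaf.stalk (f y)) (hV.primeIdealOf ⟨f y, hUV hyU⟩).asIdeal :=
      hV.isLocalization_stalk ⟨f y, hUV hyU⟩
    have hp : (hV.primeIdealOf ⟨f y, hUV hyU⟩).asIdeal = Q.under Γ(S, V) :=
      (congrArg PrimeSpectrum.asIdeal (IsAffineOpen.comap_primeIdealOf_appLE V hV U hU hUV hyU)).symm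
    rw [← IsLocalization.AtPrime.map_eq_maximalIdeal (hV.primeIdealOf ⟨f y, hUV hyU⟩).asIdeal, Ideal.map_map, hp]
    congr 1
    refine RingHom.ext fun a => ?_
    show (f.stalkMap y) (S.presheaf.germ V (f y) (hUV hyU) a) = X.presheaf.germ U y hyU (f.appLE V U hUV a)
    rw [Scheme.Hom.appLE, CommRingCat.comp_apply]
    refine (Scheme.Hom.germ_stalkMap_apply f V y (hUV hyU) a).trans ?_
    exact (X.presheaf.germ_res_apply _ y hyU _).symm
  refine ⟨Flat.stalkMap f y, (cm_fibre_iff f y).1 (cm_of_ringEquiv ?_ key)⟩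
  refine Ideal.quotientEquiv _ _ e.toRingEquiv ?_
  rw [Ideal.map_map]
  refine hm.trans (congrArg (fun g => Ideal.map g (Q.under Γ(S, V))) (RingHom.ext fun a => ?_))
  exact (e.commutes a).symm

theorem isOpen_cmLocus {X S : Scheme.{u}} (f : X ⟶ S) [Flat f] [LocallyOfFinitePresentation f] :
    IsOpen {x : X | MoreMor.IsCMAt f x} := by
  rw [isOpen_iff_forall_mem_open]
  intro x hx
  let F := f.fiber (f x)
  let π := f.fiberToSpecResidueField (f x)
  haveI : LocallyOfFiniteType π := inferInstanceAs (LocallyOfFiniteType (pullback.snd _ _))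
  obtain ⟨_, ⟨W, hW, rfl⟩, hxW, -⟩ :=
    F.isBasis_affineOpens.exists_subset_of_mem_open (Set.mem_univ (f.asFiber x)) isOpen_univ
  replace hW : IsAffineOpen W := hW
  letI : Algebra (S.residueField (f x)) Γ(F, W) :=
    ((Scheme.ΓSpecIso (S.residueField (f x))).inv ≫ π.appLE ⊤ W le_top).hom.toAlgebra
  haveI : Algebra.FiniteType (S.residueField (f x)) Γ(F, W) :=
    ((π.finiteType_appLE (isAffineOpen_top _) hW le_top).comp
      (RingHom.FiniteType.of_surjective _ (Scheme.ΓSpecIso (S.residueField (f x))).symm.commRingCatIsoToRingEquiv.surjective))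
  have hO := Groth.Agent.S9152.result (S.residueField (f x)) Γ(F, W)
  let O := hW.fromSpec '' {P : PrimeSpectrum Γ(F, W) | LocCoh.IsCohenMacaulayLocalRing (Localization.AtPrime P.asIdeal)}
  have hst : ∀ (z : F) (hz : z ∈ W), LocCoh.IsCohenMacaulayLocalRing (F.presheaf.stalk z) ↔
      LocCoh.IsCohenMacaulayLocalRing (Localization.AtPrime (hW.primeIdealOf ⟨z, hz⟩).asIdeal) := by
    intro z hz
    letI : Algebra Γ(F, W) (F.presheaf.stalk z) := (F.presheaf.germ W z hz).hom.toAlgebra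
    haveI : IsLocalization.AtPrime (F.presheaf.stalk z) (hW.primeIdealOf ⟨z, hz⟩).asIdeal :=
      hW.isLocalization_stalk ⟨z, hz⟩
    let e := (IsLocalization.algEquiv (hW.primeIdealOf ⟨z, hz⟩).asIdeal.primeCompl
      (Localization.AtPrime (hW.primeIdealOf ⟨z, hz⟩).asIdeal) (F.presheaf.stalk z)).toRingEquiv
    exact ⟨cm_of_ringEquiv e.symm, cm_of_ringEquiv e⟩
  have hOopen : IsOpen O := hW.fromSpec.isOpenEmbedding.isOpenMap _ hO
  have haO : f.asFiber x ∈ O := ⟨_, (hst _ hxW).1 hx.2, hW.fromSpec_primeIdealOf ⟨_, hxW⟩⟩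
  obtain ⟨z, ⟨⟨P, hP, hPz⟩, hza⟩, hzcl⟩ := nonempty_inter_closedPoints (X := F) (Z := O ∩ closure {f.asFiber x})
    ⟨_, haO, subset_closure rfl⟩ (hOopen.isLocallyClosed.inter isClosed_closure.isLocallyClosed)
  have hzW : z ∈ W := hPz ▸ (hW.range_fromSpec ▸ ⟨P, rfl⟩ : hW.fromSpec P ∈ (W : Set F))
  have hPz' : hW.primeIdealOf ⟨z, hzW⟩ = P :=
    hW.fromSpec.isOpenEmbedding.injective ((hW.fromSpec_primeIdealOf ⟨z, hzW⟩).trans hPz.symm)
  have hzcm : LocCoh.IsCohenMacaulayLocalRing (F.presheaf.stalk z) := (hst z hzW).2 (hPz'.symm ▸ hP)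
  have hy := isCMAt_of_fiber f (f x) z hzcm
  obtain ⟨W', hyW', hW'⟩ := exists_nhd_of_closed f _ hy (isClosed_asFiber f (f x) z _ rfl hzcl)
  refine ⟨W', hW', W'.2, ?_⟩
  have hspec : x ⤳ f.fiberι (f x) z := by
    have h : f.asFiber x ⤳ z := specializes_iff_mem_closure.mpr hza
    have := h.map (f.fiberι (f x)).continuous
    rwa [f.fiberι_asFiber] at this
  exact hspec.mem_open W'.2 hyW'

theorem dense_cmLocus {X S : Scheme.{u}} (f : X ⟶ S) [Flat f] [LocallyOfFinitePresentation f] (s : S) :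
    Dense ((f.fiberι s) ⁻¹' {x : X | MoreMor.IsCMAt f x}) := by
  rw [dense_iff_inter_open]
  rintro O hO ⟨w, hw⟩
  obtain ⟨_, ⟨W, hW, rfl⟩, hwW, hWO⟩ :=
    (f.fiber s).isBasis_affineOpens.exists_subset_of_mem_open hw hO
  replace hW : IsAffineOpen W := hW
  haveI : IsLocallyNoetherian (f.fiber s) :=
    haveI : LocallyOfFiniteType (f.fiberToSpecResidueField s) := inferInstanceAs (LocallyOfFiniteType (pullback.snd _ _))
    LocallyOfFiniteType.isLocallyNoetherian (f.fiberToSpecResidueField s)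
  obtain ⟨P, hP, -⟩ := Ideal.exists_minimalPrimes_le (I := (⊥ : Ideal Γ(f.fiber s, W)))
    (J := (hW.primeIdealOf ⟨w, hwW⟩).asIdeal) bot_le
  let z : f.fiber s := hW.fromSpec ⟨P, hP.1.1⟩
  have hzW : z ∈ W := show z ∈ (W : Set _) from hW.range_fromSpec ▸ ⟨_, rfl⟩
  refine ⟨z, hWO hzW, isCMAt_of_fiber f s z ?_⟩
  letI : Algebra Γ(f.fiber s, W) ((f.fiber s).presheaf.stalk z) := ((f.fiber s).presheaf.germ W z hzW).hom.toAlgebra
  haveI : IsLocalization.AtPrime ((f.fiber s).presheaf.stalk z) (hW.primeIdealOf ⟨z, hzW⟩).asIdeal :=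
    hW.isLocalization_stalk ⟨z, hzW⟩
  have hPz : (hW.primeIdealOf ⟨z, hzW⟩).asIdeal = P :=
    congrArg PrimeSpectrum.asIdeal (hW.fromSpec.isOpenEmbedding.injective (hW.fromSpec_primeIdealOf ⟨z, hzW⟩))
  refine cm_of_dim_le_zero ?_
  rw [IsLocalization.AtPrime.ringKrullDim_eq_height (hW.primeIdealOf ⟨z, hzW⟩).asIdeal, hPz]
  haveI := hP.1.1
  rw [(Ideal.height_eq_zero_iff (I := P)).mpr hP]
  rfl

end L02.CMMor
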