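import Groth.Agent.L02.CMMor.FibreDim

/-! Slicing a Cohen–Macaulay morphism by one element regular on the fibre. -/

set_option autoImplicit false
set_option linter.style.haveILetI false
universe u

open CategoryTheory AlgebraicGeometry IsLocalRing RingTheory.Sequence

namespace L02.CMMor

theorem cm_quotient_regular {F : Type u} [CommRing F] [LocCoh.IsCohenMacaulayLocalRing F] (a : F)
    (ha : a ∈ maximalIdeal F) (hreg : IsSMulRegular F a) :
    LocCoh.IsCohenMacaulayLocalRing (F ⧸ Ideal.span {a}) ∧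
      ringKrullDim (F ⧸ Ideal.span {a}) + 1 = ringKrullDim F := by
  have hrs : IsWeaklyRegular F [a] := (isWeaklyRegular_singleton_iff _ _).mpr hreg
  have hI : ∀ r ∈ [a], r ∈ maximalIdeal F := fun r hr => (List.mem_singleton.mp hr) ▸ ha
  have hid : (Ideal.ofList [a] • (⊤ : Submodule F F)) = Ideal.span {a} := by
    rw [smul_eq_mul, Ideal.mul_top, Ideal.ofList_singleton]
  let e := Submodule.quotEquivOfEq _ _ hid
  have hne : Ideal.span {a} ≠ ⊤ := fun h =>
    (maximalIdeal.isMaximal F).ne_top (top_le_iff.mp (h ▸ (Ideal.span_singleton_le_iff_mem _).mpr ha))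
  haveI : Nontrivial (F ⧸ Ideal.span {a}) := Ideal.Quotient.nontrivial_iff.mpr hne
  haveI : IsLocalRing (F ⧸ Ideal.span {a}) := IsLocalRing.of_surjective' _ Ideal.Quotient.mk_surjective
  have hdim : Module.supportDim F (F ⧸ (Ideal.ofList [a] • (⊤ : Submodule F F))) = ringKrullDim (F ⧸ Ideal.span {a}) := by
    rw [Module.supportDim_eq_of_equiv e, Module.supportDim_quotient_eq_ringKrullDim]
  refine ⟨cm_mk ?_, ?_⟩
  · have h := Groth.L04.isCohenMacaulayModule_quotient_ofList
      (‹LocCoh.IsCohenMacaulayLocalRing F›).supportDim_eq_depth hrs hI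
    unfold LocCoh.IsCohenMacaulayModule at h ⊢
    rw [Module.supportDim_self_eq_ringKrullDim, ← hdim, h, LocCoh.depth, LocCoh.depth,
      Groth.L04.idealDepth_congr e,
      Groth.L04.idealDepth_eq_idealDepth_map_of_finite (B := F ⧸ Ideal.span {a}) (maximalIdeal F)
        (F ⧸ Ideal.span {a})]
    rw [show (maximalIdeal F).map (algebraMap F (F ⧸ Ideal.span {a})) = maximalIdeal (F ⧸ Ideal.span {a}) from
      IsLocalRing.map_maximalIdeal_of_surjective _ Ideal.Quotient.mk_surjective]
  · have h := Groth.L04.supportDim_quotient_ofList_add (M := F) hrs hI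
    rw [hdim, Module.supportDim_self_eq_ringKrullDim] at h
    simpa using h

/-- A point is closed in its fibre iff it has no proper specialisation there. -/
theorem isClosed_asFiber_iff {X S : Scheme.{u}} (f : X ⟶ S) (x : X) :
    IsClosed ({f.asFiber x} : Set ↑(f.fiber (f x))) ↔ ∀ y : X, f y = f x → x ⤳ y → y = x := by
  have he := (f.fiberι (f x)).isEmbedding
  constructor
  · intro h y hy hxy
    obtain ⟨w, rfl⟩ := (f.range_fiberι (f x)).ge (show y ∈ f ⁻¹' {f x} from hy)
    have hw : f.asFiber x ⤳ w := he.isInducing.specializes_iff.1 (by rwa [f.fiberι_asFiber])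
    have hm := hw.mem_closure
    rw [h.closure_eq] at hm
    rw [show w = f.asFiber x from hm, f.fiberι_asFiber]
  · intro h
    rw [← closure_subset_iff_isClosed]
    intro w hw
    have hsp := (specializes_iff_mem_closure.mpr hw).map (f.fiberι (f x)).continuous
    rw [f.fiberι_asFiber] at hsp
    exact he.injective ((h _ ((f.range_fiberι (f x)).subset ⟨w, rfl⟩) hsp).trans (f.fiberι_asFiber x).symm)

/-- At a point closed in its fibre, the fibre dimension is the dimension of the local ring. -/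
theorem fibreDimAt_of_closed {X S : Scheme.{u}} (f : X ⟶ S) [LocallyOfFiniteType f] (x : X)
    (hcl : IsClosed ({f.asFiber x} : Set ↑(f.fiber (f x)))) :
    FlatMor.fibreDimAt f x = ringKrullDim ((f.fiber (f x)).presheaf.stalk (f.asFiber x)) := by
  let k := S.residueField (f x)
  letI : (f.fiber (f x)).Over (Spec (CommRingCat.of k)) := ⟨f.fiberToSpecResidueField (f x)⟩
  haveI : LocallyOfFiniteType ((f.fiber (f x)) ↘ Spec (CommRingCat.of k)) :=
    MorphismProperty.pullback_snd f (S.fromSpecResidueField (f x)) inferInstance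
  obtain ⟨a, b, ha, hb, hab⟩ := Groth.L22.SchemeDim.exists_localDim k _ (f.asFiber x)
  obtain ⟨n, hn, han⟩ := Groth.L22.SchemeDim.exists_dim_closure_eq_trdeg k _ (f.asFiber x)
  rw [hcl.closure_eq] at hn
  have hn0 : n = 0 := by
    haveI : Subsingleton ({f.asFiber x} : Set ↑(f.fiber (f x))) := Set.subsingleton_singleton.coe_sort
    have : topologicalKrullDim ({f.asFiber x} : Set ↑(f.fiber (f x))) ≤ 0 := by
      haveI : Subsingleton (TopologicalSpace.IrreducibleCloseds ({f.asFiber x} : Set ↑(f.fiber (f x)))) :=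
        ⟨fun A B => TopologicalSpace.IrreducibleCloseds.ext <| Set.ext fun w => by
          obtain ⟨y, hy⟩ := A.isIrreducible.nonempty
          obtain ⟨y', hy'⟩ := B.isIrreducible.nonempty
          constructor <;> intro _
          · rwa [Subsingleton.elim w y']
          · rwa [Subsingleton.elim w y]⟩
      exact Order.krullDim_nonpos_of_subsingleton
    rw [hn] at this
    exact Nat.le_zero.mp (by exact_mod_cast this)
  have ha0 : a = 0 := (Nat.cast_injective (R := Cardinal) (ha.symm.trans han)).trans hn0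
  show FlatMor.localDim _ _ = _
  rw [hab, hb, ha0, zero_add]

/-- Flatness of a localised quotient. -/
theorem flat_quotient_map {A B L : Type u} [CommRing A] [CommRing B] [CommRing L] [Algebra A B] [Algebra B L]
    [Algebra A L] [IsScalarTower A B L] [Module.Flat B L] (I : Ideal B) [Module.Flat A (B ⧸ I)] :
    Module.Flat A (L ⧸ I.map (algebraMap B L)) := by
  haveI : Module.Flat A (TensorProduct B (B ⧸ I) L) := Module.Flat.trans A (B ⧸ I) _
  exact Module.Flat.of_linearEquiv (R := A)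
    ((((Algebra.TensorProduct.quotIdealMapEquivTensorQuot L I).restrictScalars B).toLinearEquiv ≪≫ₗ
      (Algebra.TensorProduct.comm B L (B ⧸ I)).toLinearEquiv).restrictScalars A)

/-- The algebra of slicing: base `R`, local ring `L`, slice `M = L / (a)`. -/
theorem slice_algebra {R L M : Type u} [CommRing R] [IsLocalRing R] [CommRing L] [IsLocalRing L] [CommRing M]
    (φ : R →+* L) (π : L →+* M) (hπ : Function.Surjective π) (a : L) (ha : a ∈ maximalIdeal L)
    (hker : RingHom.ker π = Ideal.span {a})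
    [LocCoh.IsCohenMacaulayLocalRing (L ⧸ (maximalIdeal R).map φ)]
    (hreg : IsSMulRegular (L ⧸ (maximalIdeal R).map φ) (Ideal.Quotient.mk ((maximalIdeal R).map φ) a))
    (hflat : ((Ideal.Quotient.mk (Ideal.span {a})).comp φ).Flat) :
    (π.comp φ).Flat ∧ LocCoh.IsCohenMacaulayLocalRing (M ⧸ (maximalIdeal R).map (π.comp φ)) ∧
      ringKrullDim (M ⧸ (maximalIdeal R).map (π.comp φ)) + 1 = ringKrullDim (L ⧸ (maximalIdeal R).map φ) := by
  let J := (maximalIdeal R).map φ
  let ε : L ⧸ Ideal.span {a} ≃+* M :=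
    (Ideal.quotEquivOfEq hker.symm).trans (RingHom.quotientKerEquivOfSurjective hπ)
  have hcomp : π.comp φ = ε.toRingHom.comp ((Ideal.Quotient.mk (Ideal.span {a})).comp φ) := rfl
  haveI : IsLocalRing (L ⧸ J) := (‹LocCoh.IsCohenMacaulayLocalRing (L ⧸ J)›).toIsLocalRing
  have hā : Ideal.Quotient.mk J a ∈ maximalIdeal (L ⧸ J) := by
    rw [IsLocalRing.mem_maximalIdeal]
    intro hu
    haveI : IsLocalHom (Ideal.Quotient.mk J) := IsLocalHom.of_surjective _ Ideal.Quotient.mk_surjective
    exact (IsLocalRing.mem_maximalIdeal _).mp ha (IsUnit.of_map _ _ hu)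
  obtain ⟨hQ, hdim⟩ := cm_quotient_regular (Ideal.Quotient.mk J a) hā hreg
  let εF : ((L ⧸ J) ⧸ Ideal.span {Ideal.Quotient.mk J a}) ≃+* (M ⧸ (maximalIdeal R).map (π.comp φ)) :=
    (Ideal.quotEquivOfEq (show Ideal.span {Ideal.Quotient.mk J a} = (Ideal.span {a}).map (Ideal.Quotient.mk J) by
      rw [Ideal.map_span, Set.image_singleton])).trans
    ((DoubleQuot.quotQuotEquivComm J (Ideal.span {a})).trans
      (Ideal.quotientEquiv _ _ ε (by rw [hcomp, ← Ideal.map_map, ← Ideal.map_map]; rfl)))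
  refine ⟨?_, cm_of_ringEquiv εF hQ, ?_⟩
  · rw [hcomp]
    exact RingHom.Flat.comp hflat (RingHom.Flat.of_bijective ε.bijective)
  · rw [← ringKrullDim_eq_of_ringEquiv εF, hdim]

/-- Slicing by an element of the maximal ideal which is regular on the fibre. -/
theorem cm_slice {X Z Y : Scheme.{u}} (h : X ⟶ Y) [LocallyOfFinitePresentation h] (i : Z ⟶ X)
    [LocallyOfFiniteType (i ≫ h)] (hinj : Function.Injective i) (z : Z)
    (a : X.presheaf.stalk (i z)) (ha : a ∈ maximalIdeal _)
    (hsurj : Function.Surjective (i.stalkMap z)) (hker : RingHom.ker (i.stalkMap z).hom = Ideal.span {a})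
    (hflat : (h.stalkMap (i z)).hom.Flat)
    [hCM : LocCoh.IsCohenMacaulayLocalRing
      (X.presheaf.stalk (i z) ⧸ (maximalIdeal (Y.presheaf.stalk (h (i z)))).map (h.stalkMap (i z)).hom)]
    (hreg : IsSMulRegular
      (X.presheaf.stalk (i z) ⧸ (maximalIdeal (Y.presheaf.stalk (h (i z)))).map (h.stalkMap (i z)).hom)
      (Ideal.Quotient.mk ((maximalIdeal (Y.presheaf.stalk (h (i z)))).map (h.stalkMap (i z)).hom) a))
    (hcl : IsClosed ({h.asFiber (i z)} : Set ↑(h.fiber (h (i z))))) :
    MoreMor.IsCMAt (i ≫ h) z ∧ FlatMor.fibreDimAt (i ≫ h) z + 1 = FlatMor.fibreDimAt h (i z) ∧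
      IsClosed ({(i ≫ h).asFiber z} : Set ↑((i ≫ h).fiber ((i ≫ h) z))) := by
  classical
  let x := i z
  let L := X.presheaf.stalk x
  let J := (maximalIdeal (Y.presheaf.stalk (h x))).map (h.stalkMap x).hom
  have hclz : IsClosed ({(i ≫ h).asFiber z} : Set ↑((i ≫ h).fiber ((i ≫ h) z))) := by
    rw [isClosed_asFiber_iff]
    exact fun w hw hzw => hinj ((isClosed_asFiber_iff h x).mp hcl (i w) hw (hzw.map i.continuous))
  -- flatness of the quotient
  obtain ⟨V, hV, U, hU, hUV, hx, t, -, ht, hflatU⟩ := L02.CAlg.QFSlice.exists_slice_data h x hflat [a]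
    (fun r hr => (List.mem_singleton.mp hr) ▸ ha) ((isWeaklyRegular_singleton_iff _ _).mpr hreg) ⊤ trivial
  have ht0 : X.presheaf.germ U x hx (t 0) = a := ht 0
  have hq : ((RingHom.comp (Ideal.Quotient.mk (Ideal.span {a})) (h.stalkMap x).hom)).Flat := by
    letI : Algebra Γ(Y, V) Γ(X, U) := (h.appLE V U hUV).hom.toAlgebra
    letI : Algebra (MvPolynomial (Fin 1) Γ(Y, V)) Γ(X, U) :=
      (MvPolynomial.aeval (R := Γ(Y, V)) t).toRingHom.toAlgebra
    haveI : IsScalarTower Γ(Y, V) (MvPolynomial (Fin 1) Γ(Y, V)) Γ(X, U) :=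
      IsScalarTower.of_algebraMap_eq fun r => ((MvPolynomial.aeval (R := Γ(Y, V)) t).commutes r).symm
    haveI : Module.Flat (MvPolynomial (Fin 1) Γ(Y, V)) Γ(X, U) := hflatU
    let I : Ideal Γ(X, U) := Ideal.ofList (List.ofFn fun j : Fin 1 =>
      algebraMap (MvPolynomial (Fin 1) Γ(Y, V)) Γ(X, U) (MvPolynomial.X j))
    haveI hIflat : Module.Flat Γ(Y, V) (Γ(X, U) ⧸ I) := L02.CAlg.QFSlice.flat_quotient_of_flat_poly
    letI : Algebra Γ(X, U) L := (X.presheaf.germ U x hx).hom.toAlgebra
    haveI : IsLocalization.AtPrime L (hU.primeIdealOf ⟨x, hx⟩).asIdeal := hU.isLocalization_stalk ⟨x, hx⟩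
    haveI : Module.Flat Γ(X, U) L := IsLocalization.flat L (hU.primeIdealOf ⟨x, hx⟩).asIdeal.primeCompl
    let e := Algebra.TensorProduct.quotIdealMapEquivTensorQuot L I
    have hI : I.map (algebraMap Γ(X, U) L) = Ideal.span {a} := by
      have h1 : algebraMap (MvPolynomial (Fin 1) Γ(Y, V)) Γ(X, U) (MvPolynomial.X 0) = t 0 :=
        MvPolynomial.aeval_X t 0
      show (Ideal.ofList _).map _ = _
      rw [Ideal.map_ofList, List.ofFn_succ, List.ofFn_zero, h1, List.map_singleton, Ideal.ofList_singleton]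
      exact congrArg (fun b => Ideal.span {b}) ht0
    letI : Algebra Γ(Y, V) L := ((algebraMap Γ(X, U) L).comp (algebraMap Γ(Y, V) Γ(X, U))).toAlgebra
    haveI : IsScalarTower Γ(Y, V) Γ(X, U) L := IsScalarTower.of_algebraMap_eq' rfl
    let φ := RingHom.comp (Ideal.Quotient.mk (I.map (algebraMap Γ(X, U) L)))
      ((algebraMap Γ(X, U) L).comp (algebraMap Γ(Y, V) Γ(X, U)))
    have hφ : φ.Flat :=
      RingHom.flat_algebraMap_iff.mpr (flat_quotient_map (A := Γ(Y, V)) (L := L) I)
    let ψV : Γ(Y, V) →+* Y.presheaf.stalk (h x) := (Y.presheaf.germ V (h x) (hUV hx)).hom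
    have hnat : (algebraMap Γ(X, U) L).comp (algebraMap Γ(Y, V) Γ(X, U)) = (h.stalkMap x).hom.comp ψV := by
      refine RingHom.ext fun r => ?_
      show X.presheaf.germ U x hx (h.appLE V U hUV r) = h.stalkMap x (Y.presheaf.germ V (h x) (hUV hx) r)
      rw [Scheme.Hom.germ_stalkMap_apply, Scheme.Hom.appLE, CommRingCat.comp_apply]
      exact X.presheaf.germ_res_apply _ x hx _
    let χ := RingHom.comp (Ideal.Quotient.mk (I.map (algebraMap Γ(X, U) L))) (h.stalkMap x).hom
    have hχ : χ.Flat := by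
      letI := ψV.toAlgebra
      haveI : IsLocalization.AtPrime (Y.presheaf.stalk (h x)) (hV.primeIdealOf ⟨h x, hUV hx⟩).asIdeal :=
        hV.isLocalization_stalk ⟨h x, hUV hx⟩
      letI := χ.toAlgebra
      letI := φ.toAlgebra
      haveI : IsScalarTower Γ(Y, V) (Y.presheaf.stalk (h x)) (L ⧸ I.map (algebraMap Γ(X, U) L)) :=
        IsScalarTower.of_algebraMap_eq' (by
          show φ = χ.comp ψV
          rw [RingHom.comp_assoc, ← hnat])
      show Module.Flat (Y.presheaf.stalk (h x)) _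
      rw [Module.flat_iff_of_isLocalization (Y.presheaf.stalk (h x))
        (hV.primeIdealOf ⟨h x, hUV hx⟩).asIdeal.primeCompl]
      exact hφ
    have := RingHom.Flat.comp hχ (RingHom.Flat.of_bijective (f := (Ideal.quotEquivOfEq hI).toRingHom)
      (Ideal.quotEquivOfEq hI).bijective)
    exact this
  -- the local rings of the slice
  have hcomp : ((i ≫ h).stalkMap z).hom = (i.stalkMap z).hom.comp (h.stalkMap x).hom :=
    congrArg CommRingCat.Hom.hom (Scheme.Hom.stalkMap_comp i h z)
  obtain ⟨hfl, hQ, hdim⟩ := slice_algebra (h.stalkMap x).hom (i.stalkMap z).hom hsurj a ha hker hreg hq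
  have hCMz : MoreMor.IsCMAt (i ≫ h) z := by
    refine (grpd_isCMAt_iff _ _).1 ⟨?_, ?_⟩
    · show ((i ≫ h).stalkMap z).hom.Flat
      rw [hcomp]; exact hfl
    · rw [hcomp]; exact hQ
  refine ⟨hCMz, ?_, hclz⟩
  letI := ((i ≫ h).stalkMap z).hom.toAlgebra
  obtain ⟨eZ⟩ := Groth.L07.CIScheme.exists_fiberStalkEquiv (i ≫ h) ((i ≫ h) z) ((i ≫ h).asFiber z) z
    ((i ≫ h).fiberι_asFiber z)
  letI := (h.stalkMap x).hom.toAlgebra
  obtain ⟨eX⟩ := Groth.L07.CIScheme.exists_fiberStalkEquiv h (h x) (h.asFiber x) x (h.fiberι_asFiber x)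
  rw [fibreDimAt_of_closed (i ≫ h) z hclz, fibreDimAt_of_closed h x hcl, ← ringKrullDim_eq_of_ringEquiv eZ,
    ← ringKrullDim_eq_of_ringEquiv eX]
  show ringKrullDim (_ ⧸ (maximalIdeal (Y.presheaf.stalk ((i ≫ h) z))).map ((i ≫ h).stalkMap z).hom) + 1 =
    ringKrullDim (_ ⧸ (maximalIdeal (Y.presheaf.stalk (h x))).map (h.stalkMap x).hom)
  rw [hcomp]
  exact hdim

end L02.CMMor
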